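import Groth.Agent.Lib.VB17.Pair
import Groth.Agent.Lib.KFlat.LTor
import Groth.Agent.Lib.TwistBC9.Hd
import Groth.Prelude.Def_DDual2

/-! Twisting the derived category by an invertible module. -/

set_option autoImplicit false
set_option linter.style.haveILetI false
set_option backward.isDefEq.respectTransparency false
set_option backward.isDefEq.respectTransparency.types false

universe u

open CategoryTheory CategoryTheory.Limits AlgebraicGeometry

attribute [local instance] HasDerivedCategory.standard

namespace Groth.Agent.PnKoszul9

section General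

universe v v'
variable {A : Type (u+1)} [Category.{u} A] [Abelian A]
variable (F G : A ⥤ A) [F.Additive] [G.Additive] [PreservesFiniteLimits F] [PreservesFiniteColimits F]
  [PreservesFiniteLimits G] [PreservesFiniteColimits G]

/-- Mutually inverse exact functors give mutually inverse derived functors. -/
noncomputable def derivedCancel (e : F ⋙ G ≅ 𝟭 A) :
    F.mapDerivedCategory ⋙ G.mapDerivedCategory ≅ 𝟭 (DerivedCategory A) :=
  Localization.liftNatIso DerivedCategory.Q (HomologicalComplex.quasiIso A (ComplexShape.up ℤ))
    (DerivedCategory.Q ⋙ F.mapDerivedCategory ⋙ G.mapDerivedCategory)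
    (DerivedCategory.Q : CochainComplex A ℤ ⥤ DerivedCategory A) _ _
    ((Functor.associator _ _ _).symm ≪≫ Functor.isoWhiskerRight F.mapDerivedCategoryFactors _ ≪≫
      Functor.associator _ _ _ ≪≫
      Functor.isoWhiskerLeft _ G.mapDerivedCategoryFactors ≪≫ (Functor.associator _ _ _).symm ≪≫
      Functor.isoWhiskerRight (NatIso.ofComponents (fun K => HomologicalComplex.Hom.isoOfComponents
        (fun i => e.app (K.X i)) fun i j _ => (e.hom.naturality (K.d i j)).symm) fun {K L} φ => by
          ext i; exact e.hom.naturality (φ.f i)) _ ≪≫
      (DerivedCategory.Q : CochainComplex A ℤ ⥤ DerivedCategory A).leftUnitor)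

theorem isEquivalence_mapDerived [F.IsEquivalence] : F.mapDerivedCategory.IsEquivalence := by
  haveI : PreservesFiniteLimits F.inv := inferInstance
  haveI : PreservesFiniteColimits F.inv := inferInstance
  haveI : F.inv.Additive := Functor.additive_of_preserves_binary_products _
  exact (CategoryTheory.Equivalence.mk F.mapDerivedCategory F.inv.mapDerivedCategory
    (derivedCancel F F.inv F.asEquivalence.unitIso.symm).symm
    (derivedCancel F.inv F F.asEquivalence.counitIso)).isEquivalence_functor

end General

variable {X : Scheme.{u}} (M : X.Modules) (hM : PicF.IsInvertible M)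

theorem isEquivalence_tensorRightMod (hM : PicF.IsInvertible M) : (DCoh.tensorRightMod M).IsEquivalence := by
  haveI := VB17.isEquivalence_tensorR hM
  exact Functor.isEquivalence_of_iso (F := M2.tensorR M) (NatIso.ofComponents (fun _ => Iso.refl _) fun {A B} f =>
    (Category.comp_id _).trans ((VB17.whisker_eq_tensorMap f M).symm.trans (Category.id_comp _).symm))

include hM in
theorem preservesFiniteLimits_tensorRightMod : PreservesFiniteLimits (DCoh.tensorRightMod M) :=
  haveI := isEquivalence_tensorRightMod M hM
  inferInstance

/-- The twist of the derived category. -/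
noncomputable def twD [PreservesFiniteLimits (DCoh.tensorRightMod M)] : DCoh.D X ⥤ DCoh.D X :=
  (DCoh.tensorRightMod M).mapDerivedCategory

noncomputable instance [PreservesFiniteLimits (DCoh.tensorRightMod M)] : (twD M).CommShift ℤ :=
  inferInstanceAs ((DCoh.tensorRightMod M).mapDerivedCategory.CommShift ℤ)

instance [PreservesFiniteLimits (DCoh.tensorRightMod M)] : (twD M).IsTriangulated :=
  inferInstanceAs ((DCoh.tensorRightMod M).mapDerivedCategory.IsTriangulated)

include hM in
theorem isEquivalence_twD [PreservesFiniteLimits (DCoh.tensorRightMod M)] : (twD M).IsEquivalence :=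
  haveI := isEquivalence_tensorRightMod M hM
  isEquivalence_mapDerived (DCoh.tensorRightMod M)

/-- The twist of a module in one degree. -/
noncomputable def twDSingle [PreservesFiniteLimits (DCoh.tensorRightMod M)] (N : X.Modules) (i : ℤ) :
    (twD M).obj ((DerivedCategory.singleFunctor X.Modules i).obj N) ≅
      (DerivedCategory.singleFunctor X.Modules i).obj (CohB1.tensorMod N M) :=
  ((DCoh.tensorRightMod M).mapDerivedCategorySingleFunctor i).app N

/-- The twist computes the derived tensor product. -/
theorem nonempty_ltensorMod_twD [PreservesFiniteLimits (DCoh.tensorRightMod M)] [DCoh.HasLTensorMod M] :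
    Nonempty (DCoh.LTensorMod M ≅ twD M) := by
  let G := twD M
  let e : DerivedCategory.Qh ⋙ G ≅ DCoh.tensorModKh M := (DCoh.tensorRightMod M).mapDerivedCategoryFactorsh
  haveI : G.IsLeftDerivedFunctor e.hom (HomotopyCategory.quasiIso X.Modules (ComplexShape.up ℤ)) :=
    Functor.isLeftDerivedFunctor_of_inverts _ G e
  exact ⟨(Functor.leftDerivedUnique (DCoh.LTensorMod M) G e.hom
    ((DCoh.tensorModKh M).totalLeftDerivedCounit DerivedCategory.Qh
      (HomotopyCategory.quasiIso X.Modules (ComplexShape.up ℤ)))
    (HomotopyCategory.quasiIso X.Modules (ComplexShape.up ℤ))).symm⟩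

end Groth.Agent.PnKoszul9
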