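import Groth.Agent.Lib.PnKoszul9.Criterion

/-! The criterion. -/

set_option autoImplicit false
set_option linter.style.haveILetI false
set_option linter.unusedSectionVars false
set_option backward.isDefEq.respectTransparency false
set_option backward.isDefEq.respectTransparency.types false
set_option maxHeartbeats 1600000

universe u

open CategoryTheory CategoryTheory.Limits AlgebraicGeometry CategoryTheory.Pretriangulated
open Groth.Agent.TwistBC9 (oneD)

attribute [local instance] HasDerivedCategory.standard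
attribute [local instance] Groth.Agent.DBC9.hasRpush

namespace Groth.Agent.PnKoszul9

variable {n : ℕ} {A : Type u} [CommRing A]

local notation "PP" => CohB1.ProjSpace n A
local notation "π" => CohB1.ProjSpace.toSpec n A

/-- Bounded above complexes of finite locally free modules are pseudo-coherent. -/
theorem approx_boundedAbove {X : Scheme.{u}} (E : CochainComplex X.Modules ℤ) (b : ℤ)
    (hz : ∀ i, b < i → IsZero (E.X i)) (hE : ∀ i, FlatMod.IsFinLocFree (E.X i)) (m : ℤ) :
    DPerf.Approx (Set.Ici m) (DCoh.toD X E) := by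
  haveI : E.IsStrictlyLE b := (CochainComplex.isStrictlyLE_iff _ _).2 hz
  haveI := KFlat.brutGE_isStrictlyLE E m b
  let S := ShortComplex.mk (KFlat.brutι E m) (cokernel.π _) (cokernel.condition _)
  have hS : S.ShortExact := { exact := ShortComplex.exact_cokernel _ }
  refine DPerf.approx_Ici₂ m _ (DerivedCategory.triangleOfSES_distinguished hS)
    (DPerf.approx_of_isPseudoCoherentD (DGen9.isPseudoCoherentD_of_isPerfect (DGen9.ResP.isPerfect_toD
      ⟨⟨m, b, fun i hi => ?_⟩, fun i => ?_⟩) m))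
    (DPerf.approx_of_isZero_HD fun i hi => (KFlat.Sch.isZero_HD_toD_iff _ i).2 (HomologicalComplex.ExactAt.of_isZero ?_))
  · rcases hi with hi | hi
    · exact KFlat.brutGE_isZero E hi
    · exact (KFlat.brutGE E m).isZero_of_isStrictlyLE b i hi
  · show FlatMod.IsFinLocFree ((KFlat.brutGE E m).X i)
    by_cases hi : m ≤ i
    · exact M2.isFinLocFree_of_iso (KFlat.brutIso E hi).symm (hE i)
    · exact KFlat.Sch.isFinLocFree_of_isZero (KFlat.brutGE_isZero E (by omega))
  · haveI := KFlat.isIso_brutι_f E hi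
    exact (isZero_cokernel_of_epi ((KFlat.brutι E m).f i)).of_iso
      (PreservesCokernel.iso (HomologicalComplex.eval _ _ i) (KFlat.brutι E m))

/-- The hypotheses of the descending induction. -/
def InvC (C : DCoh.D PP) (q : ℤ) : Prop :=
  DCoh.IsQCohD C ∧ ∀ d : ℕ, d ≤ n → (∀ m, DCoh.IsPseudoCoherentD m ((F (n := n) (A := A) (d : ℤ)).obj C)) ∧
    ∀ i, q < i → IsZero (DCoh.HD ((F (n := n) (A := A) (d : ℤ)).obj C) i)

/-- The first `s` top cohomologies vanish. -/
def Kill (C : DCoh.D PP) (q : ℤ) (s : ℕ) : Prop :=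
  ∀ d : ℕ, d < s → IsZero (DCoh.HD ((F (n := n) (A := A) (d : ℤ)).obj C) q)

theorem pc_rpush_pc (E : DCoh.D PP) (hE : ∀ m, DCoh.IsPseudoCoherentD m E) (m : ℤ) :
    DCoh.IsPseudoCoherentD m ((DCoh.Rpush π).obj E) :=
  PerfPush9.pc_rpush_flat π E hE m

theorem pc_single {M : (PP).Modules} (h : FlatMod.IsFinLocFree M) (p m : ℤ) :
    DCoh.IsPseudoCoherentD m ((DerivedCategory.singleFunctor (PP).Modules p).obj M) := by
  refine DGen9.isPseudoCoherentD_of_isPerfect (DGen9.isPerfect_of_iso
    ((DerivedCategory.singleFunctorIsoCompQ (PP).Modules p).app M).symm (DGen9.ResP.isPerfect_toD ⟨⟨p, p, fun i hi => ?_⟩, fun i => ?_⟩)) m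
  · exact HomologicalComplex.isZero_single_obj_X _ _ _ _ (by omega)
  · by_cases hi : i = p
    · subst hi
      exact M2.isFinLocFree_of_iso (HomologicalComplex.singleObjXSelf (ComplexShape.up ℤ) i M).symm h
    · exact KFlat.Sch.isFinLocFree_of_isZero (HomologicalComplex.isZero_single_obj_X _ _ _ _ hi)

theorem pc_F_single {M : (PP).Modules} (h : FlatMod.IsFinLocFree M) (d p m : ℤ) :
    DCoh.IsPseudoCoherentD m ((F (n := n) (A := A) d).obj ((DerivedCategory.singleFunctor (PP).Modules p).obj M)) := by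
  refine pc_rpush_pc _ (fun m => DGen9.isPseudoCoherentD_of_isPerfect ?_ m) m
  refine DGen9.isPerfect_of_iso (twDSingle _ M p).symm ?_
  have hT : FlatMod.IsFinLocFree (CohB1.tensorMod M (_root_.Twist.twistProjSpace n A d)) :=
    M2.isFinLocFree_tensor h (M2.isFinLocFree_of_isInvertible (Twist.isInvertible_twistProjSpace n A d))
  refine DGen9.isPerfect_of_iso ((DerivedCategory.singleFunctorIsoCompQ (PP).Modules p).app _).symm
    (DGen9.ResP.isPerfect_toD ⟨⟨p, p, fun i hi => ?_⟩, fun i => ?_⟩)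
  · exact HomologicalComplex.isZero_single_obj_X _ _ _ _ (by omega)
  · by_cases hi : i = p
    · subst hi
      exact M2.isFinLocFree_of_iso (HomologicalComplex.singleObjXSelf (ComplexShape.up ℤ) i _).symm hT
    · exact KFlat.Sch.isFinLocFree_of_isZero (HomologicalComplex.isZero_single_obj_X _ _ _ _ hi)

/-- One killing step. -/
theorem exists_step (C : DCoh.D PP) (q : ℤ) (s : ℕ) (hs : s ≤ n) (hC : InvC C q) (hk : Kill C q s) :
    ∃ T : Triangle (DCoh.D PP), T ∈ distTriang _ ∧ T.obj₂ = C ∧ (∀ m, DCoh.IsPseudoCoherentD m T.obj₁) ∧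
      InvC T.obj₃ q ∧ Kill T.obj₃ q (s + 1) := by
  obtain ⟨_, _⟩ := DPush.exists_commShift_isTriangulated π
  haveI := isEquivalence_twD (_root_.Twist.twistProjSpace n A (s : ℤ)) (Twist.isInvertible_twistProjSpace n A _)
  let Fs := F (n := n) (A := A) (s : ℤ)
  obtain ⟨r, α, hα⟩ := exists_cells (isQCohD_F (s : ℤ) hC.1) q (hC.2 s hs).1 (hC.2 s hs).2
  let W := ⨁ fun _ : Fin r => _root_.Twist.twistProjSpace n A (-(s : ℤ))
  let P := (DerivedCategory.singleFunctor (PP).Modules q).obj W
  let S1 := DerivedCategory.singleFunctor (Spec (CommRingCat.of A)).Modules q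
  let Z := DerivedCategory.singleFunctor (PP).Modules q ⋙ tk (n := n) (A := A) (s : ℤ)
  obtain ⟨Φ, hΦ⟩ := exists_homS (n := n) (A := A) q
  obtain ⟨w⟩ := nonempty_tk_one (n := n) (A := A) (s : ℤ) q
  let t : ∀ _ : Fin r, oneD PP q ⟶ Z.obj (_root_.Twist.twistProjSpace n A (-(s : ℤ))) := fun _ => w.inv
  let γ : Fin r → (oneD PP q ⟶ (tk (n := n) (A := A) (s : ℤ)).obj C) := fun j =>
    (Φ _).symm (S1.map (biproduct.ι (fun _ : Fin r => Coh.structureModule (Spec (CommRingCat.of A))) j) ≫ α)
  obtain ⟨c, hc⟩ : ∃ c : P ⟶ C, ∀ j, w.inv ≫ Z.map (biproduct.ι (fun _ : Fin r => _root_.Twist.twistProjSpace n A (-(s : ℤ))) j) ≫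
      (tk (n := n) (A := A) (s : ℤ)).map c = γ j := by
    obtain ⟨c, hc⟩ := (tk (n := n) (A := A) (s : ℤ)).map_surjective
      ((Z.mapBiproduct fun _ : Fin r => _root_.Twist.twistProjSpace n A (-(s : ℤ))).hom ≫
        biproduct.desc fun j => w.hom ≫ γ j)
    refine ⟨c, fun j => ?_⟩
    have hι : Z.map (biproduct.ι (fun _ : Fin r => _root_.Twist.twistProjSpace n A (-(s : ℤ))) j) ≫
        (Z.mapBiproduct fun _ : Fin r => _root_.Twist.twistProjSpace n A (-(s : ℤ))).hom =
          biproduct.ι (fun _ : Fin r => Z.obj (_root_.Twist.twistProjSpace n A (-(s : ℤ)))) j := by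
      refine biproduct.hom_ext _ _ fun b => ?_
      rw [Category.assoc, Functor.mapBiproduct_hom]
      erw [biproduct.lift_π]
      rw [← Z.map_comp]
      by_cases hb : j = b
      · subst hb
        rw [biproduct.ι_π_self, Z.map_id]
        exact (biproduct.ι_π_self (fun _ : Fin r => Z.obj (_root_.Twist.twistProjSpace n A (-(s : ℤ)))) j).symm
      · rw [biproduct.ι_π_ne _ hb, Z.map_zero]
        exact (biproduct.ι_π_ne (fun _ : Fin r => Z.obj (_root_.Twist.twistProjSpace n A (-(s : ℤ)))) hb).symm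
    rw [hc]
    show w.inv ≫ Z.map _ ≫ _ ≫ _ = γ j
    rw [reassoc_of% hι, biproduct.ι_desc, Iso.inv_hom_id_assoc]
  obtain ⟨C', g, h, hT⟩ := distinguished_cocone_triangle c
  let T := Triangle.mk c g h
  have hepi : Epi ((DerivedCategory.homologyFunctor _ q).map (Fs.map c)) := by
    let θ : Fin r → (S1.obj (Coh.structureModule (Spec (CommRingCat.of A))) ⟶ Fs.obj P) := fun j =>
      Φ _ (w.inv ≫ Z.map (biproduct.ι (fun _ : Fin r => _root_.Twist.twistProjSpace n A (-(s : ℤ))) j))
    have hθ : (S1.mapBiproduct fun _ : Fin r => Coh.structureModule (Spec (CommRingCat.of A))).hom ≫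
        biproduct.desc θ ≫ Fs.map c = α := by
      rw [← cancel_epi (S1.mapBiproduct fun _ : Fin r => Coh.structureModule (Spec (CommRingCat.of A))).inv,
        Iso.inv_hom_id_assoc]
      refine biproduct.hom_ext' _ _ fun j => ?_
      rw [biproduct.ι_desc_assoc, Functor.mapBiproduct_inv, biproduct.ι_desc_assoc]
      refine (hΦ _ _ _ ((tk (n := n) (A := A) (s : ℤ)).map c)).symm.trans ?_
      rw [Category.assoc, hc j]
      exact (Φ _).apply_symm_apply _
    rw [← hθ, ← Category.assoc, Functor.map_comp] at hα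
    exact @epi_of_epi _ _ _ _ _ _ _ hα
  have hpcP : ∀ m, DCoh.IsPseudoCoherentD m P := fun m => pc_single (isFinLocFree_twSum r _) q m
  have hq' : DCoh.IsQCohD C' := DPush.isQCohD_obj₃ T hT
    (TwistBC9.isQCohD_inD W (M2.isQCoh_of_isFinLocFree (isFinLocFree_twSum r _)) q) hC.1
  refine ⟨T, hT, rfl, hpcP, ⟨hq', fun d hd => ?_⟩, fun d hd => ?_⟩
  · let Fd := F (n := n) (A := A) (d : ℤ)
    have hTd := Fd.map_distinguished T hT
    refine ⟨fun m => DPerf.isPseudoCoherentD_of_approx (DPerf.approx_Ici₃ m _ hTd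
      (DPerf.approx_of_isPseudoCoherentD (pc_F_single (isFinLocFree_twSum r _) _ q (m + 1)))
      (DPerf.approx_of_isPseudoCoherentD ((hC.2 d hd).1 m))), fun i hi => ?_⟩
    exact (DerivedCategory.HomologySequence.exact₃ _ hTd i (i + 1) rfl).isZero_of_both_zeros
      (((hC.2 d hd).2 i hi).eq_of_src _ _) ((isZero_F_cell hs r q (i + 1) (by omega)).eq_of_tgt _ _)
  · let Fd := F (n := n) (A := A) (d : ℤ)
    have hTd := Fd.map_distinguished T hT
    refine (DerivedCategory.HomologySequence.exact₃ _ hTd q (q + 1) rfl).isZero_of_both_zeros ?_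
      ((isZero_F_cell hs r q (q + 1) (by omega)).eq_of_tgt _ _)
    rcases Nat.lt_succ_iff_lt_or_eq.1 hd with hd' | rfl
    · exact (hk d hd').eq_of_src _ _
    · haveI : Epi ((DerivedCategory.homologyFunctor (Spec (CommRingCat.of A)).Modules q).map (Fd.mapTriangle.obj T).mor₁) := hepi
      rw [← cancel_epi ((DerivedCategory.homologyFunctor (Spec (CommRingCat.of A)).Modules q).map (Fd.mapTriangle.obj T).mor₁),
        comp_zero, ← Functor.map_comp, comp_distTriang_mor_zero₁₂ _ hTd, Functor.map_zero]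

/-- The criterion, one direction. -/
theorem pc_of_F {K : DCoh.D PP} (hK : DCoh.IsQCohD K)
    (h : ∀ d : ℕ, d ≤ n → ∀ m, DCoh.IsPseudoCoherentD m ((F (n := n) (A := A) (d : ℤ)).obj K)) (m : ℤ) :
    DCoh.IsPseudoCoherentD m K := by
  obtain ⟨δ, hδ⟩ := exists_delta (n := n) (R := A)
  have main : ∀ (k : ℕ) (q : ℤ), q + δ < m + k → ∀ C : DCoh.D PP, InvC C q → DPerf.Approx (Set.Ici m) C := by
    intro k
    induction k with
    | zero =>
      intro q hq C hC
      refine DPerf.approx_of_isZero_HD fun i hi => hδ C hC.1 q (fun d hd => abv_of_F _ (hC.2 d hd).2 hC.1) i ?_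
      push_cast at hq
      omega
    | succ k ih =>
      intro q hq
      have inner : ∀ (j s : ℕ), s + j = n + 1 → ∀ C : DCoh.D PP, InvC C q → Kill C q s → DPerf.Approx (Set.Ici m) C := by
        intro j
        induction j with
        | zero =>
          intro s hs C hC hk
          refine ih (q - 1) (by push_cast at hq; omega) C ⟨hC.1, fun d hd => ⟨(hC.2 d hd).1, fun i hi => ?_⟩⟩
          rcases (show q ≤ i by omega).eq_or_lt with rfl | hlt
          · exact hk d (by omega)
          · exact (hC.2 d hd).2 i hlt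
        | succ j ihj =>
          intro s hs C hC hk
          obtain ⟨T, hT, rfl, hP, hC', hk'⟩ := exists_step C q s (by omega) hC hk
          exact DPerf.approx_Ici₂ m T hT (DPerf.approx_of_isPseudoCoherentD (hP m)) (ihj (s + 1) (by omega) _ hC' hk')
      intro C hC
      exact inner (n + 1) 0 (by omega) C hC (fun d hd => absurd hd (Nat.not_lt_zero d))
  have hb : ∀ d : ℕ, d ≤ n → ∃ b : ℤ, ∀ i, b < i → IsZero (DCoh.HD ((F (n := n) (A := A) (d : ℤ)).obj K) i) :=
    fun d hd => by
      obtain ⟨b, hb⟩ := DPerf.exists_isLE_of_pseudoCoherent (h d hd 0)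
      exact ⟨b, (DerivedCategory.isLE_iff _ _).1 hb⟩
  choose b hb using hb
  obtain ⟨B, hB⟩ : ∃ B : ℤ, ∀ (d : ℕ) (hd : d ≤ n), b d hd ≤ B := by
    classical
    obtain ⟨B, hB⟩ := ((Finset.univ : Finset (Fin (n + 1))).image fun d : Fin (n + 1) => b d.1 (Nat.lt_succ_iff.1 d.2)).bddAbove
    exact ⟨B, fun d hd => hB (Finset.mem_coe.2 (Finset.mem_image.2 ⟨⟨d, by omega⟩, Finset.mem_univ _, rfl⟩))⟩
  exact DPerf.isPseudoCoherentD_of_approx (main (B + δ + 1 - m).toNat B (by omega) K
    ⟨hK, fun d hd => ⟨h d hd, fun i hi => hb d hd i (lt_of_le_of_lt (hB d hd) hi)⟩⟩)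

/-- The criterion, the other direction. -/
theorem F_pc_of_pc {K : DCoh.D PP} (hK : ∀ m, DCoh.IsPseudoCoherentD m K) (d : ℤ) (m : ℤ) :
    DCoh.IsPseudoCoherentD m ((F (n := n) (A := A) d).obj K) := by
  refine pc_rpush_pc _ (fun m => ?_) m
  have hL := isAmpleFamily_twist_one (n := n) (R := A)
  haveI := hL.1
  haveI := hL.2.1
  obtain ⟨b, hb⟩ := DPerf.exists_isLE_of_pseudoCoherent (hK 0)
  obtain ⟨E, hz, hterm, ⟨eE⟩⟩ := AmpleRes8.exists_resolution _ hL K hK b
    fun i hi => (DerivedCategory.isLE_iff _ _).1 hb i hi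
  have hflf := fun i => AmpleRes8.isFinLocFree_of_inAddL _ hL.2.2.1 (hterm i)
  let tf := DCoh.tensorRightMod (_root_.Twist.twistProjSpace n A d)
  refine DPerf.isPseudoCoherentD_of_approx ((approx_boundedAbove
    ((tf.mapHomologicalComplex (ComplexShape.up ℤ)).obj E) b (fun i hi => tf.map_isZero (hz i hi))
    (fun i => M2.isFinLocFree_tensor (hflf i) (M2.isFinLocFree_of_isInvertible (Twist.isInvertible_twistProjSpace n A d))) m).of_iso
    ((tf.mapDerivedCategoryFactors.app E).symm ≪≫ (tk (n := n) (A := A) d).mapIso eE))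

end Groth.Agent.PnKoszul9
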