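import Mathlib

/-! The Koszul complex of commuting degree one operators. -/

set_option autoImplicit false
set_option linter.unusedSectionVars false
set_option backward.isDefEq.respectTransparency false

universe v w

open CategoryTheory CategoryTheory.Limits

namespace Groth.Agent.PnKoszul9

/-- Subsets of a given size. -/
abbrev Idx (N : ℕ) (i : ℤ) : Type := {S : Finset (Fin N) // (S.card : ℤ) = i}

variable {N : ℕ}

/-- The sign of putting `j` into `S`. -/
def sgn (j : Fin N) (S : Finset (Fin N)) : ℤ := (-1) ^ (S.filter (· < j)).card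

theorem sgn_mul_self (j : Fin N) (S : Finset (Fin N)) : sgn j S * sgn j S = 1 := by
  rw [sgn, ← pow_add, Even.neg_one_pow ⟨_, rfl⟩]

theorem sgn_insert (j k : Fin N) (S : Finset (Fin N)) (hk : k ∉ S) :
    sgn j (insert k S) = (if k < j then -1 else 1) * sgn j S := by
  unfold sgn
  rw [Finset.filter_insert]
  by_cases h : k < j
  · rw [if_pos h, if_pos h, Finset.card_insert_of_notMem (fun h' => hk (Finset.mem_filter.1 h').1), pow_succ]
    ring
  · rw [if_neg h, if_neg h, one_mul]

theorem sgn_swap {j k : Fin N} (hjk : j ≠ k) (S : Finset (Fin N)) (hj : j ∉ S) (hk : k ∉ S) :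
    sgn j S * sgn k (insert j S) = -(sgn k S * sgn j (insert k S)) := by
  rw [sgn_insert k j S hj, sgn_insert j k S hk]
  rcases lt_or_gt_of_ne hjk with h | h
  · rw [if_pos h, if_neg (lt_asymm h)]; ring
  · rw [if_neg (lt_asymm h), if_pos h]; ring

/-- Adding an element. -/
def Idx.ins {i k : ℤ} (h : i + 1 = k) (j : Fin N) (S : Idx N i) (hj : j ∉ S.1) : Idx N k :=
  ⟨insert j S.1, by rw [Finset.card_insert_of_notMem hj]; push_cast; rw [S.2]; exact h⟩

/-- Removing an element. -/
def Idx.rem {i k : ℤ} (h : i + 1 = k) (j : Fin N) (T : Idx N k) (hj : j ∈ T.1) : Idx N i :=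
  ⟨T.1.erase j, by
    have h1 := Finset.card_erase_add_one hj
    have h2 := T.2
    omega⟩

variable {C : Type w} [Category.{v} C] [Preadditive C] [HasFiniteBiproducts C]

/-- Commuting degree one operators. -/
structure Ops (N : ℕ) (C : Type w) [Category.{v} C] where
  O : ℤ → C
  x : Fin N → ∀ b c : ℤ, b + 1 = c → (O b ⟶ O c)
  comm : ∀ (j k : Fin N) (b c e : ℤ) (h₁ : b + 1 = c) (h₂ : c + 1 = e),
    x j b c h₁ ≫ x k c e h₂ = x k b c h₁ ≫ x j c e h₂

namespace Ops

variable (P : Ops N C) (a : ℤ)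

/-- The terms. -/
noncomputable abbrev X (i : ℤ) : C := ⨁ fun _ : Idx N i => P.O (a + i)

/-- The inclusion of a summand. -/
noncomputable abbrev inc {i : ℤ} (S : Idx N i) : P.O (a + i) ⟶ P.X a i :=
  biproduct.ι (fun _ : Idx N i => P.O (a + i)) S

/-- Wedging with one operator. -/
noncomputable def e (j : Fin N) {i k : ℤ} (h : i + 1 = k) : P.X a i ⟶ P.X a k :=
  biproduct.desc fun S => if hj : j ∈ S.1 then 0 else
    sgn j S.1 • (P.x j (a + i) (a + k) (by omega) ≫ P.inc a (Idx.ins h j S hj))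

theorem ι_e_of_mem (j : Fin N) {i k : ℤ} (h : i + 1 = k) (S : Idx N i) (hj : j ∈ S.1) :
    P.inc a S ≫ P.e a j h = 0 := by
  simp only [e, inc, biproduct.ι_desc, dif_pos hj]

theorem ι_e_of_notMem (j : Fin N) {i k : ℤ} (h : i + 1 = k) (S : Idx N i) (hj : j ∉ S.1) :
    P.inc a S ≫ P.e a j h =
      sgn j S.1 • (P.x j (a + i) (a + k) (by omega) ≫ P.inc a (Idx.ins h j S hj)) := by
  simp only [e, inc, biproduct.ι_desc, dif_neg hj, not_false_eq_true]

theorem e_anticomm (j j' : Fin N) {i k l : ℤ} (h₁ : i + 1 = k) (h₂ : k + 1 = l) :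
    P.e a j h₁ ≫ P.e a j' h₂ + P.e a j' h₁ ≫ P.e a j h₂ = 0 := by
  refine biproduct.hom_ext' _ _ fun S => ?_
  rw [Preadditive.comp_add, comp_zero, ← Category.assoc, ← Category.assoc]
  by_cases hj : j ∈ S.1
  · rw [ι_e_of_mem P a j h₁ S hj, zero_comp, zero_add]
    by_cases hj' : j' ∈ S.1
    · rw [ι_e_of_mem P a j' h₁ S hj', zero_comp]
    · rw [ι_e_of_notMem P a j' h₁ S hj', Preadditive.zsmul_comp, Category.assoc,
        ι_e_of_mem P a j h₂ _ (Finset.mem_insert_of_mem hj), comp_zero, smul_zero]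
  · rw [ι_e_of_notMem P a j h₁ S hj, Preadditive.zsmul_comp, Category.assoc]
    by_cases hj' : j' ∈ S.1
    · rw [ι_e_of_mem P a j' h₁ S hj', zero_comp, add_zero,
        ι_e_of_mem P a j' h₂ _ (Finset.mem_insert_of_mem hj'), comp_zero, smul_zero]
    · rw [ι_e_of_notMem P a j' h₁ S hj', Preadditive.zsmul_comp, Category.assoc]
      by_cases hjj : j = j'
      · subst hjj
        rw [ι_e_of_mem P a j h₂ _ (Finset.mem_insert_self j S.1)]
        simp
      · rw [ι_e_of_notMem P a j' h₂ _ (fun hm => (Finset.mem_insert.1 hm).elim (fun e => hjj e.symm) hj'),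
          ι_e_of_notMem P a j h₂ _ (fun hm => (Finset.mem_insert.1 hm).elim hjj hj)]
        simp only [Preadditive.comp_zsmul, smul_smul, ← Category.assoc]
        rw [P.comm j j' _ _ _ _ _]
        have hins : Idx.ins h₂ j' (Idx.ins h₁ j S hj) (fun hm => (Finset.mem_insert.1 hm).elim (fun e => hjj e.symm) hj') =
            Idx.ins h₂ j (Idx.ins h₁ j' S hj') (fun hm => (Finset.mem_insert.1 hm).elim hjj hj) :=
          Subtype.ext (Finset.insert_comm j' j S.1)
        rw [hins, ← add_smul]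
        simp only [Idx.ins]
        rw [sgn_swap hjj S.1 hj hj', neg_add_cancel, zero_smul]

theorem e_self (j : Fin N) {i k l : ℤ} (h₁ : i + 1 = k) (h₂ : k + 1 = l) : P.e a j h₁ ≫ P.e a j h₂ = 0 := by
  refine biproduct.hom_ext' _ _ fun S => ?_
  rw [comp_zero, ← Category.assoc]
  by_cases hj : j ∈ S.1
  · rw [ι_e_of_mem P a j h₁ S hj, zero_comp]
  · rw [ι_e_of_notMem P a j h₁ S hj, Preadditive.zsmul_comp, Category.assoc,
      ι_e_of_mem P a j h₂ _ (Finset.mem_insert_self j S.1), comp_zero, smul_zero]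

/-- The differential. -/
noncomputable def d {i k : ℤ} (h : i + 1 = k) : P.X a i ⟶ P.X a k := ∑ j, P.e a j h

theorem d_d {i k l : ℤ} (h₁ : i + 1 = k) (h₂ : k + 1 = l) : P.d a h₁ ≫ P.d a h₂ = 0 := by
  rw [d, Preadditive.sum_comp]
  simp only [d, Preadditive.comp_sum]
  rw [← Finset.sum_product']
  refine Finset.sum_involution (fun p _ => (p.2, p.1)) (fun p _ => P.e_anticomm a p.1 p.2 h₁ h₂) ?_
    (fun p _ => Finset.mem_univ _) fun p _ => rfl
  intro p _ hp heq
  exact hp (by rw [show p.2 = p.1 from congrArg Prod.fst heq]; exact P.e_self a p.1 h₁ h₂)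

/-- The Koszul complex. -/
noncomputable def cx : CochainComplex C ℤ :=
  CochainComplex.of (fun i => P.X a i) (fun i => P.d a rfl) fun i => P.d_d a rfl rfl

theorem cx_d (i k : ℤ) (h : i + 1 = k) : (P.cx a).d i k = P.d a h := by
  subst h
  exact CochainComplex.of_d (fun i => P.X a i) (fun i => P.d a rfl) i

/-- Contraction with the inverse of one invertible operator. -/
noncomputable def hl (l : Fin N) (hiso : ∀ b c h, IsIso (P.x l b c h)) {i k : ℤ} (h : i + 1 = k) :
    P.X a k ⟶ P.X a i :=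
  biproduct.desc fun T => if hlT : l ∈ T.1 then
    sgn l (T.1.erase l) • (@inv _ _ _ _ (P.x l (a + i) (a + k) (by omega)) (hiso _ _ _) ≫
      P.inc a (Idx.rem h l T hlT)) else 0

variable (l : Fin N) (hl' : ∀ b c h, IsIso (P.x l b c h))

theorem ι_hl_of_mem {i k : ℤ} (h : i + 1 = k) (T : Idx N k) (hlT : l ∈ T.1) :
    P.inc a T ≫ P.hl a l hl' h = sgn l (T.1.erase l) •
      (@inv _ _ _ _ (P.x l (a + i) (a + k) (by omega)) (hl' _ _ _) ≫ P.inc a (Idx.rem h l T hlT)) := by
  simp only [hl, inc, biproduct.ι_desc, dif_pos hlT]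

theorem ι_hl_of_notMem {i k : ℤ} (h : i + 1 = k) (T : Idx N k) (hlT : l ∉ T.1) :
    P.inc a T ≫ P.hl a l hl' h = 0 := by
  simp only [hl, inc, biproduct.ι_desc, dif_neg hlT, not_false_eq_true]

include hl' in
theorem comm_inv (j : Fin N) {b c e : ℤ} (h₁ : b + 1 = c) (h₂ : c + 1 = e) :
    P.x j c e h₂ ≫ @inv _ _ _ _ (P.x l c e h₂) (hl' _ _ _) =
      @inv _ _ _ _ (P.x l b c h₁) (hl' _ _ _) ≫ P.x j b c h₁ := by
  haveI := hl'
  rw [IsIso.comp_inv_eq, Category.assoc, IsIso.eq_inv_comp]
  exact (P.comm j l b c e h₁ h₂).symm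

theorem hl_e {i k m : ℤ} (h₁ : i + 1 = k) (h₂ : k + 1 = m) (j : Fin N) :
    P.hl a l hl' h₁ ≫ P.e a j h₁ + P.e a j h₂ ≫ P.hl a l hl' h₂ = if j = l then 𝟙 _ else 0 := by
  haveI := hl'
  refine biproduct.hom_ext' _ _ fun T => ?_
  rw [Preadditive.comp_add, ← Category.assoc, ← Category.assoc]
  by_cases hjl : j = l
  · subst hjl
    rw [if_pos rfl, Category.comp_id]
    by_cases hT : j ∈ T.1
    · rw [ι_e_of_mem P a j h₂ T hT, zero_comp, add_zero, ι_hl_of_mem P a j hl' h₁ T hT,
        Preadditive.zsmul_comp, Category.assoc, ι_e_of_notMem P a j h₁ _ (Finset.notMem_erase j T.1)]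
      simp only [Preadditive.comp_zsmul, smul_smul, IsIso.inv_hom_id_assoc]
      have hT' : Idx.ins h₁ j (Idx.rem h₁ j T hT) (Finset.notMem_erase j T.1) = T :=
        Subtype.ext (Finset.insert_erase hT)
      rw [hT']
      simp only [Idx.rem, sgn_mul_self, one_smul]
    · rw [ι_hl_of_notMem P a j hl' h₁ T hT, zero_comp, zero_add, ι_e_of_notMem P a j h₂ T hT,
        Preadditive.zsmul_comp, Category.assoc, ι_hl_of_mem P a j hl' h₂ _ (Finset.mem_insert_self j T.1)]
      simp only [Preadditive.comp_zsmul, smul_smul, IsIso.hom_inv_id_assoc]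
      have hT' : Idx.rem h₂ j (Idx.ins h₂ j T hT) (Finset.mem_insert_self j T.1) = T :=
        Subtype.ext (Finset.erase_insert hT)
      rw [hT']
      simp only [Idx.ins, Finset.erase_insert hT, sgn_mul_self, one_smul]
  · rw [if_neg hjl, comp_zero]
    by_cases hlT : l ∈ T.1
    · rw [ι_hl_of_mem P a l hl' h₁ T hlT, Preadditive.zsmul_comp, Category.assoc]
      by_cases hjT : j ∈ T.1
      · rw [ι_e_of_mem P a j h₂ T hjT, zero_comp, add_zero,
          ι_e_of_mem P a j h₁ _ (Finset.mem_erase.2 ⟨hjl, hjT⟩), comp_zero, smul_zero]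
      · rw [ι_e_of_notMem P a j h₂ T hjT, Preadditive.zsmul_comp, Category.assoc,
          ι_e_of_notMem P a j h₁ _ (fun hm => hjT (Finset.mem_of_mem_erase hm)),
          ι_hl_of_mem P a l hl' h₂ _ (Finset.mem_insert_of_mem hlT)]
        simp only [Preadditive.comp_zsmul, smul_smul, ← Category.assoc]
        rw [comm_inv P l hl' j (b := a + i) (c := a + k) (e := a + m) (by omega) (by omega)]
        have hT' : Idx.rem h₂ l (Idx.ins h₂ j T hjT) (Finset.mem_insert_of_mem hlT) =
            Idx.ins h₁ j (Idx.rem h₁ l T hlT) (fun hm => hjT (Finset.mem_of_mem_erase hm)) :=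
          Subtype.ext (Finset.erase_insert_of_ne hjl)
        rw [hT', ← add_smul]
        simp only [Idx.ins, Idx.rem, Finset.erase_insert_of_ne hjl]
        have key : sgn l (T.1.erase l) * sgn j (T.1.erase l) + sgn j T.1 * sgn l (insert j (T.1.erase l)) = 0 := by
          conv_lhs => rw [show sgn j T.1 = sgn j (insert l (T.1.erase l)) by rw [Finset.insert_erase hlT]]
          rw [sgn_insert j l _ (Finset.notMem_erase l T.1),
            sgn_insert l j _ (fun hm => hjT (Finset.mem_of_mem_erase hm))]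
          rcases lt_or_gt_of_ne hjl with hlt | hlt
          · rw [if_neg (lt_asymm hlt), if_pos hlt]; ring
          · rw [if_pos hlt, if_neg (lt_asymm hlt)]; ring
        rw [key, zero_smul]
    · rw [ι_hl_of_notMem P a l hl' h₁ T hlT, zero_comp, zero_add]
      by_cases hjT : j ∈ T.1
      · rw [ι_e_of_mem P a j h₂ T hjT, zero_comp]
      · rw [ι_e_of_notMem P a j h₂ T hjT, Preadditive.zsmul_comp, Category.assoc,
          ι_hl_of_notMem P a l hl' h₂ _ (fun hm => (Finset.mem_insert.1 hm).elim (fun e => hjl e.symm) hlT),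
          comp_zero, smul_zero]

theorem hl_d {i k m : ℤ} (h₁ : i + 1 = k) (h₂ : k + 1 = m) :
    P.hl a l hl' h₁ ≫ P.d a h₁ + P.d a h₂ ≫ P.hl a l hl' h₂ = 𝟙 _ := by
  simp only [d, Preadditive.comp_sum, Preadditive.sum_comp, ← Finset.sum_add_distrib, hl_e P a l hl' h₁ h₂]
  rw [Finset.sum_ite_eq' Finset.univ l, if_pos (Finset.mem_univ _)]

include hl' in
/-- With one invertible operator the Koszul complex is exact. -/
theorem exactAt_cx [CategoryWithHomology C] (i : ℤ) : (P.cx a).ExactAt i := by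
  rw [HomologicalComplex.exactAt_iff_isZero_homology, IsZero.iff_id_eq_zero]
  let hom : ∀ p q : ℤ, (P.cx a).X p ⟶ (P.cx a).X q := fun p q =>
    if h : q + 1 = p then P.hl a l hl' h else 0
  have hh : Homotopy (𝟙 (P.cx a)) 0 :=
    { hom := hom
      zero := fun p q hpq => by
        simp only [hom]
        rw [dif_neg]
        exact fun h => hpq h
      comm := fun p => by
        rw [dNext_eq hom (show (ComplexShape.up ℤ).Rel p (p + 1) from rfl),
          prevD_eq hom (show (ComplexShape.up ℤ).Rel (p - 1) p from sub_add_cancel p 1)]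
        simp only [hom, dif_pos, sub_add_cancel, cx_d P a p (p + 1) rfl, cx_d P a (p - 1) p (sub_add_cancel p 1),
          HomologicalComplex.id_f, HomologicalComplex.zero_f, add_zero]
        rw [add_comm]
        exact (P.hl_d a l hl' (sub_add_cancel p 1) rfl).symm }
  have := hh.homologyMap_eq i
  rwa [HomologicalComplex.homologyMap_id, HomologicalComplex.homologyMap_zero] at this

end Ops

end Groth.Agent.PnKoszul9
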