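import Groth.Agent.Lib.PnKoszul9.Up

/-! Vanishing above a degree against twists bounds cohomology on projective space. -/

set_option autoImplicit false
set_option linter.style.haveILetI false
set_option backward.isDefEq.respectTransparency false
set_option backward.isDefEq.respectTransparency.types false

universe u

open CategoryTheory CategoryTheory.Limits AlgebraicGeometry CategoryTheory.Pretriangulated

attribute [local instance] HasDerivedCategory.standard

namespace Groth.Agent.PnKoszul9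

variable {n : ℕ} {R : Type u} [CommRing R]

/-- A twist as an object. -/
noncomputable abbrev tw (n : ℕ) (R : Type u) [CommRing R] (d : ℤ) : DCoh.D (CohB1.ProjSpace n R) :=
  DCoh.inD (CohB1.ProjSpace n R) (_root_.Twist.twistProjSpace n R d)

theorem isPerfect_tw (d : ℤ) : DCoh.IsPerfect (tw n R d) :=
  DPerf.isPerfect_iff_approx.2 (DPerf.approx_inD_of_isFinLocFree
    (M2.isFinLocFree_of_isInvertible (Twist.isInvertible_twistProjSpace n R d)))

/-- Perfect objects are retracts of bounded complexes of sums of twists. -/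
theorem exists_bounded_retract {P : DCoh.D (CohB1.ProjSpace n R)} (hP : DCoh.IsPerfect P) :
    ∃ (L : CochainComplex (CohB1.ProjSpace n R).Modules ℤ) (c b : ℤ) (s : P ⟶ DCoh.toD _ L) (r : DCoh.toD _ L ⟶ P),
      L.IsStrictlyGE c ∧ L.IsStrictlyLE b ∧ s ≫ r = 𝟙 P ∧
      ∀ i, ∃ (k : ℕ) (N : Fin k → ℤ), (∀ j, N j ≤ 0) ∧ Nonempty (L.X i ≅ ⨁ fun j => _root_.Twist.twistProjSpace n R (N j)) := by
  have hL := isAmpleFamily_twist_one (n := n) (R := R)
  haveI := hL.1
  haveI := hL.2.1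
  have hpc : ∀ k, DCoh.IsPseudoCoherentD k P := DGen9.isPseudoCoherentD_of_isPerfect hP
  obtain ⟨b, hb⟩ := DPerf.exists_isLE_of_pseudoCoherent (hpc 0)
  obtain ⟨F, hz, hterm, ⟨eF⟩⟩ := AmpleRes8.exists_resolution _ hL P hpc b
    fun i hi => (DerivedCategory.isLE_iff _ _).1 hb i hi
  haveI : F.IsStrictlyLE b := (CochainComplex.isStrictlyLE_iff _ _).2 hz
  obtain ⟨c, B, hv⟩ := DMV.exists_vanishing_range _ hP
  let S := ShortComplex.mk (KFlat.brutι F c) (cokernel.π _) (cokernel.condition _)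
  have hS : S.ShortExact := { exact := ShortComplex.exact_cokernel _ }
  let T := DerivedCategory.triangleOfSES hS
  have hT : T ∈ distTriang _ := DerivedCategory.triangleOfSES_distinguished hS
  have hq : ∀ i, Coh.IsQCoh (F.X i) := fun i =>
    M2.isQCoh_of_isFinLocFree (AmpleRes8.isFinLocFree_of_inAddL _ hL.2.2.1 (hterm i))
  have hq' : ∀ i, Coh.IsQCoh ((KFlat.brutGE F c).X i) := fun i => by
    by_cases hi : c ≤ i
    · exact M1.isQCoh_of_isIso (KFlat.brutIso F hi).symm (hq i)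
    · exact DPush.isQCoh_of_isZero (KFlat.brutGE_isZero F (by omega))
  have hC : ∀ i, c ≤ i → IsZero (DCoh.HD (DCoh.toD _ (cokernel (KFlat.brutι F c))) i) := fun i hi => by
    refine (KFlat.Sch.isZero_HD_toD_iff _ i).2 (HomologicalComplex.ExactAt.of_isZero ?_)
    haveI := KFlat.isIso_brutι_f F hi
    exact (isZero_cokernel_of_epi ((KFlat.brutι F c).f i)).of_iso
      (PreservesCokernel.iso (HomologicalComplex.eval _ _ i) (KFlat.brutι F c))
  have hzero : eF.inv ≫ T.mor₂ = 0 :=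
    hv _ (DPush.isQCohD_obj₃ _ hT (DQC.isQCohD_toD hq') (DQC.isQCohD_toD hq)) (fun i hi _ => hC i hi) _
  obtain ⟨g, hg⟩ := Triangle.coyoneda_exact₂ _ hT eF.inv hzero
  refine ⟨KFlat.brutGE F c, c, b, g, T.mor₁ ≫ eF.hom, inferInstance, KFlat.brutGE_isStrictlyLE F c b, ?_, fun i => ?_⟩
  · rw [← Category.assoc, ← hg]
    exact eF.inv_hom_id
  by_cases hi : c ≤ i
  · obtain ⟨k, M, hM, ⟨eM⟩⟩ := hterm i
    choose N hN using fun j => exists_iso_twist_of_isNegPower (hM j)
    exact ⟨k, N, fun j => (hN j).1, ⟨KFlat.brutIso F hi ≪≫ eM ≪≫ biproduct.mapIso fun j => (hN j).2.some⟩⟩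
  · exact ⟨0, Fin.elim0, fun j => j.elim0, ⟨(KFlat.brutGE_isZero F (by omega)).iso
      (IsZero.iff_id_eq_zero _ |>.2 (biproduct.hom_ext _ _ fun j => j.elim0))⟩⟩

variable {C : DCoh.D (CohB1.ProjSpace n R)}

/-- Higher negative twists. -/
theorem abv_tw_neg {q : ℤ} (h : ∀ d : ℕ, d ≤ n → Abv C q (tw n R (-(d : ℤ)))) :
    ∀ e : ℕ, Abv C q (tw n R (-(e : ℤ))) := by
  intro e
  induction e using Nat.strong_induction_on with
  | _ e ih =>
    by_cases he : e ≤ n
    · exact h e he
    let L := koszul n R (-(e : ℤ))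
    haveI : L.IsStrictlyGE 0 :=
      (CochainComplex.isStrictlyGE_iff _ _).2 fun i hi => isZero_koszul_X n R _ i (Or.inl hi)
    haveI : L.IsStrictlyLE ((n : ℤ) + 1) :=
      (CochainComplex.isStrictlyLE_iff _ _).2 fun i hi => isZero_koszul_X n R _ i (Or.inr hi)
    have h0 : Abv C q ((DerivedCategory.singleFunctor _ 0).obj (L.X 0)) :=
      abv_lowest q L 0 ((n : ℤ) + 1) (isZero_koszul_Q _) fun i hi => by
        by_cases hi' : (n : ℤ) + 1 < i
        · exact abv_isZero ((DerivedCategory.singleFunctor _ 0).map_isZero (isZero_koszul_X n R _ i (Or.inr hi')))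
        · refine abv_biproduct (fun _ : Idx (n + 1) i => _root_.Twist.twistProjSpace n R (-(e : ℤ) + i)) fun _ => ?_
          have := ih (e - i.toNat) (by omega)
          rwa [show (-((e - i.toNat : ℕ) : ℤ)) = -(e : ℤ) + i by omega] at this
    let S' : Idx (n + 1) (0 : ℤ) := ⟨∅, rfl⟩
    let f := fun _ : Idx (n + 1) (0 : ℤ) => _root_.Twist.twistProjSpace n R (-(e : ℤ) + 0)
    have h1 : Abv C q ((DerivedCategory.singleFunctor _ 0).obj (f S')) :=
      abv_retract ((DerivedCategory.singleFunctor _ 0).map (biproduct.ι f S'))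
        ((DerivedCategory.singleFunctor _ 0).map (biproduct.π f S'))
        (by rw [← Functor.map_comp, biproduct.ι_π_self, CategoryTheory.Functor.map_id]) h0
    simpa [f] using h1

/-- All twists. -/
theorem exists_abv_tw {q : ℤ} (h : ∀ d : ℕ, d ≤ n → Abv C q (tw n R (-(d : ℤ)))) :
    ∀ e : ℤ, e ≤ 0 → Abv C q (tw n R e) := fun e he => by
  have := abv_tw_neg h (-e).toNat
  rwa [show (-((-e).toNat : ℕ) : ℤ) = e by omega] at this

/-- Cohomology is bounded by the degree of vanishing against twists. -/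
theorem exists_delta : ∃ δ : ℕ, ∀ (C : DCoh.D (CohB1.ProjSpace n R)), DCoh.IsQCohD C → ∀ q : ℤ,
    (∀ d : ℕ, d ≤ n → Abv C q (tw n R (-(d : ℤ)))) → ∀ i : ℤ, q + δ < i → IsZero (DCoh.HD C i) := by
  by_contra hne
  push Not at hne
  choose C hC q hq i hi hnz using hne
  let E : ULift.{u} ℕ → DCoh.D (CohB1.ProjSpace n R) := fun k => (C k.down)⟦q k.down⟧
  haveI : HasCoproduct E := DPush.hasCoproduct_D E
  have hE : ∀ k, DCoh.IsQCohD (E k) := fun k => DMV.isQCohD_shift _ (hC _) _
  have hS : DCoh.IsQCohD (∐ E) := DPerf.isQCohD_sigma E hE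
  have hL := isAmpleFamily_twist_one (n := n) (R := R)
  haveI := hL.1
  haveI := hL.2.1
  have habv : ∀ d : ℕ, d ≤ n → Abv (∐ E) 0 (tw n R (-(d : ℤ))) := fun d hd t ht φ => by
    obtain ⟨s, hs⟩ := DGen9.qFin_of_isPerfect (DGen9.isPerfect_shiftD (isPerfect_tw (-(d : ℤ))) (-t)) _ E hE φ
    rw [← hs, DPush.finProj_eq_sum, Preadditive.comp_sum]
    refine Finset.sum_eq_zero fun k _ => ?_
    have h0 : φ ≫ Sigma.π E k = 0 := by
      obtain ⟨g, hg⟩ : ∃ g : (tw n R (-(d : ℤ)))⟦-(t + q k.down)⟧ ⟶ C k.down,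
          (shiftFunctorAdd' _ (-(t + q k.down)) (q k.down) (-t) (by omega)).hom.app _ ≫ g⟦q k.down⟧' =
            φ ≫ Sigma.π E k := by
        obtain ⟨g, hg⟩ := (shiftFunctor (DCoh.D (CohB1.ProjSpace n R)) (q k.down)).map_surjective
          ((shiftFunctorAdd' _ (-(t + q k.down)) (q k.down) (-t) (by omega)).inv.app (tw n R (-(d : ℤ))) ≫
            φ ≫ Sigma.π E k)
        exact ⟨g, by rw [hg, Iso.hom_inv_id_app_assoc]⟩
      rw [← hg, hq k.down d hd _ (by omega) g, Functor.map_zero, comp_zero]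
    refine (Category.assoc _ _ _).symm.trans (Eq.trans ?_ ((congrArg (· ≫ Sigma.ι E k) h0).trans zero_comp))
    congr!
  have hev : ∀ K : DCoh.D (CohB1.ProjSpace n R), DCoh.IsPerfect K → DGen9.EvOrth Filter.atTop K (∐ E) := fun K hK => by
    obtain ⟨L, c, b, s, r, hc, hb, hsr, hterm⟩ := exists_bounded_retract hK
    haveI := hc
    haveI := hb
    have hA : Abv (∐ E) (0 - c) (DCoh.toD _ L) := abv_of_bounded 0 L c b fun j => by
      obtain ⟨k, N, hN, ⟨eN⟩⟩ := hterm j
      exact abv_iso ((DerivedCategory.singleFunctor _ 0).mapIso eN.symm)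
        (abv_biproduct _ fun l => exists_abv_tw habv (N l) (hN l))
    have hK' := abv_retract s r hsr hA
    exact Filter.eventually_atTop.2 ⟨0 - c + 1, fun t ht => hK' t (by omega)⟩
  obtain ⟨N, hN⟩ := Filter.eventually_atTop.1 (DGen9.hasBd DGen9.niceDir_atTop _ _ hS hev)
  let k : ℕ := N.toNat
  have hz : IsZero (DCoh.HD (E ⟨k⟩) (i k - q k)) := by
    have h1 := hN (i k - q k) (by have := hi k; omega)
    let H := DerivedCategory.homologyFunctor (CohB1.ProjSpace n R).Modules (i k - q k)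
    haveI : IsSplitMono (H.map (Sigma.ι E ⟨k⟩)) := IsSplitMono.mk' ⟨H.map (Sigma.π E ⟨k⟩), by
      rw [← Functor.map_comp, Sigma.ι_π_eq_id, CategoryTheory.Functor.map_id]⟩
    exact IsZero.of_mono (H.map (Sigma.ι E ⟨k⟩)) h1
  exact hnz k (hz.of_iso ((((DerivedCategory.homologyFunctor _ 0).shiftIso (q k) (i k - q k) (i k) (by omega)).app
    (C k)).symm))

end Groth.Agent.PnKoszul9
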