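import Groth.Agent.Lib.PnKoszul9.Bound
import Groth.Agent.Lib.PnKoszul9.TwistD
import Groth.Agent.Lib.DPerf.Tilde
import Groth.Agent.Lib.DGen9.KoszulOrth
import Groth.Agent.Lib.DGen9.PCPush
import Groth.Agent.Lib.DGen9.PerfMain
import Groth.Agent.Lib.TwistBC9.Tensor
import Groth.Agent.Lib.CohFound.ProjCech
import Groth.Agent.Lib.DerAdic9.Affine

/-! Pseudo-coherence on projective space through direct images of twists. -/

set_option autoImplicit false
set_option linter.style.haveILetI false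
set_option linter.unusedSectionVars false
set_option backward.isDefEq.respectTransparency false
set_option backward.isDefEq.respectTransparency.types false
set_option maxHeartbeats 1600000

universe u

open CategoryTheory CategoryTheory.Limits AlgebraicGeometry CategoryTheory.Pretriangulated
open Groth.Agent.TwistBC9 (oneD)

attribute [local instance] HasDerivedCategory.standard

namespace Groth.Agent.PnKoszul9

section Spec

variable {A : CommRingCat.{u}}

theorem isZero_HD_of_hom {E : DCoh.D (Spec A)} (hE : DCoh.IsQCohD E) (j : ℤ)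
    (h : ∀ φ : oneD (Spec A) j ⟶ E, φ = 0) : IsZero (DCoh.HD E j) := by
  obtain ⟨M, ⟨e⟩⟩ := DQC.exists_iso_of_isQCohD _ hE
  let t : (DPerf.tildeDD A).obj (DGen9.KO.KD ([] : List A)) ≅ DCoh.inD (Spec A) (Coh.structureModule (Spec A)) :=
    (DPerf.tildeDD A).mapIso DGen9.KO.nilIso.symm ≪≫ DGen9.KO.oneIso.symm
  have e1 := ((DerivedCategory.singleFunctors (Spec A).Modules).shiftIso (-j) j 0 (by omega)).app
    (Coh.structureModule (Spec A))
  have hv : DGen9.KO.VanX ([] : List A) E j := fun φ => by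
    have := h (e1.inv ≫ (shiftFunctor (DCoh.D (Spec A)) (-j)).map t.inv ≫ φ)
    rw [← cancel_epi ((shiftFunctor (DCoh.D (Spec A)) (-j)).map t.inv), ← cancel_epi e1.inv, this, comp_zero,
      comp_zero]
  have hz := DGen9.KO.isZero_homology_of_pt (fun φ => (cancel_epi DGen9.KO.nilIso.inv).1
    (((DGen9.KO.vanX_iff _ M j).1 (DGen9.KO.vanX_iso e.symm hv) _).trans comp_zero.symm))
  exact ((tilde.functor A).map_isZero hz).of_iso
    ((DerivedCategory.homologyFunctor _ j).mapIso e.symm ≪≫ DPerf.hdTildeIso M j)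

theorem hom_one_eq_zero {E : DCoh.D (Spec A)} (hE : DCoh.IsQCohD E) (t : ℤ) (h : IsZero (DCoh.HD E t))
    (φ : oneD (Spec A) t ⟶ E) : φ = 0 := by
  let c := (DerivedCategory.singleFunctor (Spec A).Modules t).mapIso (DerAdic9.unitGenIso (X := Spec A))
  exact (cancel_epi c.inv).1 ((DQC.bijective_θ E hE (isAffineOpen_top (Spec A)) t).1 (h.eq_of_tgt _ _))

/-- Finitely many sections generate the top cohomology. -/
theorem exists_cells {E : DCoh.D (Spec A)} (hq : DCoh.IsQCohD E) (p : ℤ) (hpc : ∀ m, DCoh.IsPseudoCoherentD m E)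
    (hz : ∀ i, p < i → IsZero (DCoh.HD E i)) :
    ∃ (r : ℕ) (α : (DerivedCategory.singleFunctor (Spec A).Modules p).obj
        (⨁ fun _ : Fin r => Coh.structureModule (Spec A)) ⟶ E),
      Epi ((DerivedCategory.homologyFunctor (Spec A).Modules p).map α) := by
  obtain ⟨M, ⟨e⟩⟩ := DQC.exists_iso_of_isQCohD _ hq
  have hzM : ∀ i, p < i → IsZero ((DerivedCategory.homologyFunctor (ModuleCat.{u} A) i).obj M) := fun i hi =>
    DPerf.isZero_of_tilde ((hz i hi).of_iso
      ((DPerf.hdTildeIso M i).symm ≪≫ (DerivedCategory.homologyFunctor _ i).mapIso e))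
  haveI : M.IsLE p := (DerivedCategory.isLE_iff _ _).2 hzM
  have hpcM : DRing.IsPseudoCoherent A (p - 1) M := (DPerf.pc_tilde_iff _ M).1
    (DPerf.isPseudoCoherentD_of_approx ((DPerf.approx_of_isPseudoCoherentD (hpc (p - 1))).of_iso e.symm))
  have hFT : CohB1.IsFT (DCoh.HD ((DPerf.tildeDD A).obj M) p) :=
    DPerf.finiteType_top (DPerf.isPseudoCoherentD_of_approx
      ((DPerf.approx_of_isPseudoCoherentD (hpc p)).of_iso e.symm))
      fun i hi => ((tilde.functor A).map_isZero (hzM i hi)).of_iso (DPerf.hdTildeIso M i)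
  let H : ModuleCat.{u} A := (DerivedCategory.homologyFunctor (ModuleCat.{u} A) p).obj M
  haveI : Module.Finite A (Dual.HD A M p) := by
    have hfin : Module.Finite A ((tilde.functor A ⋙ moduleSpecΓFunctor).obj H) :=
      M1.finite_sections_spec _ (inferInstanceAs ((tilde.functor A).obj H).IsQuasicoherent)
        (M1.isFT_of_isIso (DPerf.hdTildeIso M p) hFT)
    exact Module.Finite.equiv (M := ((tilde.functor A ⋙ moduleSpecΓFunctor).obj H : Type u))
      ((tilde.toTildeΓNatIso (R := A)).app H).toLinearEquiv.symm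
  obtain ⟨G, α, hG, hF, hepi⟩ := DPerf.exists_top_hom M p
  haveI : G.IsStrictlyLE p := (CochainComplex.isStrictlyLE_iff _ _).2 fun i hi => hG i (Or.inr hi)
  haveI : G.IsStrictlyGE p := (CochainComplex.isStrictlyGE_iff _ _).2 fun i hi => hG i (Or.inl hi)
  obtain ⟨N, ⟨iG⟩⟩ := CochainComplex.exists_iso_single G p
  let eN : N ≅ G.X p := (HomologicalComplex.singleObjXSelf (ComplexShape.up ℤ) p N).symm ≪≫
    (HomologicalComplex.eval (ModuleCat.{u} A) _ p).mapIso iG.symm
  haveI : Module.Finite A (G.X p) := (hF p).1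
  haveI : Module.Free A (G.X p) := (hF p).2
  haveI : Module.Finite A N := Module.Finite.equiv eN.toLinearEquiv.symm
  haveI : Module.Free A N := Module.Free.of_equiv eN.toLinearEquiv.symm
  obtain ⟨r, ⟨b⟩⟩ : ∃ r : ℕ, Nonempty (Module.Basis (Fin r) A N) := by
    classical
    exact ⟨_, ⟨(Module.Free.chooseBasis A N).reindex (Fintype.equivFin _)⟩⟩
  let eR : (⨁ fun _ : Fin r => ModuleCat.of A A) ≅ N :=
    ModuleCat.biproductIsoPi _ ≪≫ b.equivFun.symm.toModuleIso
  let eT : (tilde.functor A).obj N ≅ ⨁ fun _ : Fin r => Coh.structureModule (Spec A) :=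
    (tilde.functor A).mapIso eR.symm ≪≫ (tilde.functor A).mapBiproduct _ ≪≫
      biproduct.mapIso fun _ => tildeSelf (R := A)
  refine ⟨r, ((DerivedCategory.singleFunctor (Spec A).Modules p).mapIso eT.symm).hom ≫
    ((tilde.functor A).mapDerivedCategorySingleFunctor p).inv.app N ≫
    (DPerf.tildeDD A).map (((DerivedCategory.singleFunctorIsoCompQ (ModuleCat.{u} A) p).app N).hom ≫
      DerivedCategory.Q.map iG.inv ≫ α) ≫ e.hom, ?_⟩
  haveI h1 : Epi ((DerivedCategory.homologyFunctor (ModuleCat.{u} A) p).map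
      (((DerivedCategory.singleFunctorIsoCompQ (ModuleCat.{u} A) p).app N).hom ≫ DerivedCategory.Q.map iG.inv ≫ α)) := by
    rw [Functor.map_comp, Functor.map_comp]
    haveI := hepi
    infer_instance
  haveI h3 : Epi ((DerivedCategory.homologyFunctor (ModuleCat.{u} A) p ⋙ tilde.functor A).map
      (((DerivedCategory.singleFunctorIsoCompQ (ModuleCat.{u} A) p).app N).hom ≫ DerivedCategory.Q.map iG.inv ≫ α)) :=
    (inferInstance : Epi ((tilde.functor A).map ((DerivedCategory.homologyFunctor (ModuleCat.{u} A) p).map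
      (((DerivedCategory.singleFunctorIsoCompQ (ModuleCat.{u} A) p).app N).hom ≫ DerivedCategory.Q.map iG.inv ≫ α))))
  haveI h2 : Epi ((DerivedCategory.homologyFunctor (Spec A).Modules p).map ((DPerf.tildeDD A).map
      (((DerivedCategory.singleFunctorIsoCompQ (ModuleCat.{u} A) p).app N).hom ≫ DerivedCategory.Q.map iG.inv ≫ α))) :=
    (show Epi (((DPerf.tildeDD A) ⋙ DerivedCategory.homologyFunctor (Spec A).Modules p).map _) from
      (NatIso.naturality_2 (TwistBC9.hdMapIso (tilde.functor A) p) _) ▸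
        (inferInstance : Epi ((TwistBC9.hdMapIso (tilde.functor A) p).hom.app _ ≫
          (DerivedCategory.homologyFunctor (ModuleCat.{u} A) p ⋙ tilde.functor A).map
            (((DerivedCategory.singleFunctorIsoCompQ (ModuleCat.{u} A) p).app N).hom ≫
              DerivedCategory.Q.map iG.inv ≫ α) ≫
          (TwistBC9.hdMapIso (tilde.functor A) p).inv.app _)))
  rw [Functor.map_comp, Functor.map_comp, Functor.map_comp]
  infer_instance

end Spec

variable {n : ℕ} {A : Type u} [CommRing A]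

local notation "PP" => CohB1.ProjSpace n A
local notation "π" => CohB1.ProjSpace.toSpec n A

instance preservesFiniteLimits_tw (d : ℤ) :
    PreservesFiniteLimits (DCoh.tensorRightMod (_root_.Twist.twistProjSpace n A d)) :=
  preservesFiniteLimits_tensorRightMod _ (Twist.isInvertible_twistProjSpace n A d)

/-- The twist by `d` on the derived category. -/
noncomputable abbrev tk (d : ℤ) : DCoh.D PP ⥤ DCoh.D PP := twD (_root_.Twist.twistProjSpace n A d)

theorem nonempty_tk_single (d e i : ℤ) :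
    Nonempty ((tk (n := n) (A := A) d).obj ((DerivedCategory.singleFunctor (PP).Modules i).obj (_root_.Twist.twistProjSpace n A e)) ≅
      (DerivedCategory.singleFunctor (PP).Modules i).obj (_root_.Twist.twistProjSpace n A (e + d))) := by
  obtain ⟨t⟩ := Twist.nonempty_tensor_iso (CohB1.polyGrading n A) e d (Twist.iSup_basicOpen_one n A)
  exact ⟨twDSingle _ _ i ≪≫ (DerivedCategory.singleFunctor _ i).mapIso t⟩

theorem nonempty_tk_one (d i : ℤ) :
    Nonempty ((tk (n := n) (A := A) d).obj ((DerivedCategory.singleFunctor (PP).Modules i).obj (_root_.Twist.twistProjSpace n A (-d))) ≅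
      oneD PP i) := by
  obtain ⟨t⟩ := nonempty_tk_single (n := n) (A := A) d (-d) i
  obtain ⟨z⟩ := Twist.nonempty_twist_zero_iso (CohB1.polyGrading n A)
  exact ⟨t ≪≫ (DerivedCategory.singleFunctor _ i).mapIso (eqToIso (congrArg _ (neg_add_cancel d)) ≪≫ z)⟩

theorem isQCohD_tk (d : ℤ) {E : DCoh.D PP} (hE : DCoh.IsQCohD E) : DCoh.IsQCohD ((tk (n := n) (A := A) d).obj E) := fun i =>
  M1.isQCoh_of_isIso ((TwistBC9.hdMapIso (DCoh.tensorRightMod (_root_.Twist.twistProjSpace n A d)) i).app E).symm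
    (M2.isQCoh_tensor (hE i) (Twist.isQCoh_twistProjSpace n A d))

/-- Higher cohomology of small twists. -/
theorem hom_one_tw_eq_zero {e : ℤ} (he : -(n : ℤ) ≤ e) {q : ℤ} (hq : 0 < q) (a : ℤ)
    (φ : oneD PP (a + q) ⟶ (DerivedCategory.singleFunctor (PP).Modules a).obj (_root_.Twist.twistProjSpace n A e)) : φ = 0 := by
  obtain ⟨k, rfl⟩ : ∃ k : ℕ, q = (k : ℤ) := ⟨q.toNat, by omega⟩
  have h1 := CohFound.ProjNum.subsingleton_hc_Od (n := n) (R := A) (d := e) k (by omega) (Or.inl he)
  have h2 : Subsingleton (Abelian.Ext.{u} ((DQC.gen PP).obj ⊤) (_root_.Twist.twistProjSpace n A e) k) :=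
    SiteRlim.subsingleton_ext_freeOn (PP).sheaf ⊤ _ k
      ((CohFound.huExt ((CohFound.abF PP).obj (_root_.Twist.twistProjSpace n A e)) k ⊤).toEquiv.subsingleton_congr.2 h1)
  haveI := SiteRlim.subsingleton_hom_single (a + k) a k rfl h2
  let c := (DerivedCategory.singleFunctor (PP).Modules (a + k)).mapIso (DerAdic9.unitGenIso (X := PP))
  exact (cancel_epi c.inv).1 (Subsingleton.elim _ _)

attribute [local instance] DBC9.hasRpush

/-- Sections of direct images. -/
theorem exists_homS (p : ℤ) : ∃ Φ : ∀ E : DCoh.D PP, (oneD PP p ⟶ E) ≃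
      (oneD (Spec (CommRingCat.of A)) p ⟶ (DCoh.Rpush π).obj E),
    (∀ (E E' : DCoh.D PP) (f : oneD PP p ⟶ E) (g : E ⟶ E'), Φ E' (f ≫ g) = Φ E f ≫ (DCoh.Rpush π).map g) := by
  obtain ⟨o⟩ := TwistBC9.nonempty_lP_oneM π p
  refine ⟨fun E => (o.symm.homCongr (Iso.refl E)).trans ((DMon9.adjLP π).homEquiv _ _), fun E E' f g => ?_⟩
  simp only [Equiv.trans_apply, Iso.homCongr_apply, Iso.refl_hom, Category.comp_id]
  rw [← Category.assoc, (DMon9.adjLP π).homEquiv_naturality_right]

/-- The direct image of a twist. -/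
noncomputable abbrev F (d : ℤ) : DCoh.D PP ⥤ DCoh.D (Spec (CommRingCat.of A)) :=
  tk (n := n) (A := A) d ⋙ DCoh.Rpush π

theorem isQCohD_F (d : ℤ) {E : DCoh.D PP} (hE : DCoh.IsQCohD E) : DCoh.IsQCohD ((F (n := n) (A := A) d).obj E) :=
  DPush.isQCohD_rpush _ _ (isQCohD_tk d hE)

/-- Vanishing of direct images is vanishing against twists. -/
theorem abv_of_F {C : DCoh.D PP} {q : ℤ} (d : ℤ)
    (h : ∀ i, q < i → IsZero (DCoh.HD ((F (n := n) (A := A) d).obj C) i)) (hC : DCoh.IsQCohD C) :
    Abv C q (tw n A (-d)) := fun t ht φ => by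
  obtain ⟨Φ, -⟩ := exists_homS (n := n) (A := A) t
  have e := ((DerivedCategory.singleFunctors (PP).Modules).shiftIso (-t) t 0 (by omega)).app (_root_.Twist.twistProjSpace n A (-d))
  obtain ⟨w⟩ := nonempty_tk_one (n := n) (A := A) d t
  haveI := isEquivalence_twD (_root_.Twist.twistProjSpace n A d) (Twist.isInvertible_twistProjSpace n A d)
  rw [← cancel_epi e.inv, comp_zero]
  apply (tk (n := n) (A := A) d).map_injective
  rw [Functor.map_zero, ← cancel_epi w.inv, comp_zero]
  apply (Φ _).injective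
  exact (hom_one_eq_zero (isQCohD_F d hC) t (h t ht) _).trans
    (hom_one_eq_zero (isQCohD_F d hC) t (h t ht) _).symm

/-- A finite sum of copies of a twist. -/
theorem isFinLocFree_twSum (r : ℕ) (e : ℤ) :
    FlatMod.IsFinLocFree (⨁ fun _ : Fin r => _root_.Twist.twistProjSpace n A e) :=
  KFlat.Sch.isFinLocFree_biproduct _ fun _ => M2.isFinLocFree_of_isInvertible (Twist.isInvertible_twistProjSpace n A e)

/-- Direct images of cells. -/
theorem isZero_F_cell {d d' : ℕ} (hd : d ≤ n) (r : ℕ) (p i : ℤ) (hi : p < i) :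
    IsZero (DCoh.HD ((F (n := n) (A := A) (d' : ℤ)).obj ((DerivedCategory.singleFunctor (PP).Modules p).obj
      (⨁ fun _ : Fin r => _root_.Twist.twistProjSpace n A (-(d : ℤ))))) i) := by
  let Z := DerivedCategory.singleFunctor (PP).Modules p
  refine isZero_HD_of_hom (isQCohD_F _ (TwistBC9.isQCohD_inD _ (M2.isQCoh_of_isFinLocFree (isFinLocFree_twSum r _)) p)) i fun φ => ?_
  obtain ⟨Φ, hΦ⟩ := exists_homS (n := n) (A := A) i
  obtain ⟨ψ, rfl⟩ := (Φ _).surjective φ
  obtain ⟨_, _⟩ := DPush.exists_commShift_isTriangulated π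
  suffices ψ = 0 by
    let E₀ := (tk (n := n) (A := A) (d' : ℤ)).obj ((DerivedCategory.singleFunctor (PP).Modules p).obj
      (⨁ fun _ : Fin r => _root_.Twist.twistProjSpace n A (-(d : ℤ))))
    have h0 := hΦ E₀ E₀ ψ (0 : E₀ ⟶ E₀)
    rw [comp_zero, Functor.map_zero, comp_zero] at h0
    rw [this]
    exact h0
  let G := Z ⋙ tk (n := n) (A := A) (d' : ℤ)
  haveI : G.Additive := inferInstance
  rw [← cancel_mono (G.mapBiproduct fun _ : Fin r => _root_.Twist.twistProjSpace n A (-(d : ℤ))).hom, zero_comp]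
  refine biproduct.hom_ext _ _ fun j => ?_
  rw [zero_comp]
  obtain ⟨t⟩ := nonempty_tk_single (n := n) (A := A) (d' : ℤ) (-(d : ℤ)) p
  rw [← cancel_mono t.hom, zero_comp]
  obtain ⟨q, hq, rfl⟩ : ∃ q, 0 < q ∧ i = p + q := ⟨i - p, by omega, by omega⟩
  exact hom_one_tw_eq_zero (by omega) hq p _

end Groth.Agent.PnKoszul9
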