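import Groth.Agent.Lib.RHom.HomologyExact
import Mathlib.Algebra.Homology.DerivedCategory.ShortExact
import Mathlib.Algebra.Homology.DerivedCategory.SingleTriangle

/-! Objects receiving only zero maps from shifts: dévissage of bounded complexes. -/

set_option autoImplicit false
set_option backward.isDefEq.respectTransparency false
set_option backward.isDefEq.respectTransparency.types false

universe w v u

open CategoryTheory CategoryTheory.Limits CategoryTheory.Pretriangulated

namespace Groth.Agent.PnKoszul9

variable {A : Type u} [Category.{v} A] [Abelian A] [HasDerivedCategory.{w} A] (K : DerivedCategory A)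

/-- All maps from shifts of `E` to `K` vanish. -/
def Orth (E : DerivedCategory A) : Prop := ∀ (m : ℤ) (φ : E⟦m⟧ ⟶ K), φ = 0

variable {K}

theorem orth_iso {E E' : DerivedCategory A} (e : E ≅ E') (h : Orth K E) : Orth K E' := fun m φ => by
  rw [← cancel_epi ((shiftFunctor _ m).map e.hom), comp_zero]
  exact h m _

theorem orth_isZero {E : DerivedCategory A} (h : IsZero E) : Orth K E := fun m _ =>
  ((shiftFunctor _ m).map_isZero h).eq_of_src _ _

theorem orth_shift {E : DerivedCategory A} (h : Orth K E) (k : ℤ) : Orth K (E⟦k⟧) := fun m φ => by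
  rw [← cancel_epi ((shiftFunctorAdd' (DerivedCategory A) k m (k + m) rfl).app E).hom, comp_zero]
  exact h (k + m) _

theorem orth_shift_iff {E : DerivedCategory A} (k : ℤ) : Orth K (E⟦k⟧) ↔ Orth K E :=
  ⟨fun h => orth_iso ((shiftEquiv (DerivedCategory A) k).unitIso.app E).symm (orth_shift h (-k)), fun h => orth_shift h k⟩

theorem orth₂ (T : Triangle (DerivedCategory A)) (hT : T ∈ distTriang _) (h₁ : Orth K T.obj₁)
    (h₃ : Orth K T.obj₃) : Orth K T.obj₂ := fun m φ => by
  obtain ⟨g, hg⟩ := Triangle.yoneda_exact₂ _ (Triangle.shift_distinguished T hT m) φ (h₁ m _)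
  rw [hg, show g = 0 from h₃ m g, comp_zero]

theorem orth₁ (T : Triangle (DerivedCategory A)) (hT : T ∈ distTriang _) (h₂ : Orth K T.obj₂)
    (h₃ : Orth K T.obj₃) : Orth K T.obj₁ :=
  orth₂ T.invRotate (inv_rot_of_distTriang _ hT) (orth_shift h₃ _) h₂

theorem orth₃ (T : Triangle (DerivedCategory A)) (hT : T ∈ distTriang _) (h₁ : Orth K T.obj₁)
    (h₂ : Orth K T.obj₂) : Orth K T.obj₃ :=
  orth₂ T.rotate (rot_of_distTriang _ hT) h₂ (orth_shift h₁ _)

/-- A module in one degree. -/
theorem orth_single_iff (X : A) (a : ℤ) :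
    Orth K ((DerivedCategory.singleFunctor A a).obj X) ↔ Orth K ((DerivedCategory.singleFunctor A 0).obj X) := by
  have e := ((DerivedCategory.singleFunctors A).shiftIso a 0 a (add_zero a)).app X
  exact ⟨fun h => orth_iso e (orth_shift h a), fun h => (orth_shift_iff a).1 (orth_iso e.symm h)⟩

/-- A complex with a single term. -/
theorem orth_Q_single_iff (X : A) (a : ℤ) :
    Orth K (DerivedCategory.Q.obj ((HomologicalComplex.single A (ComplexShape.up ℤ) a).obj X)) ↔
      Orth K ((DerivedCategory.singleFunctor A 0).obj X) := by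
  rw [← orth_single_iff X a]
  exact ⟨orth_iso ((DerivedCategory.singleFunctorIsoCompQ A a).app X).symm,
    orth_iso ((DerivedCategory.singleFunctorIsoCompQ A a).app X)⟩

theorem orth_biproduct {ι : Type*} [Fintype ι] (f : ι → A) [HasBiproduct f]
    (h : ∀ i, Orth K ((DerivedCategory.singleFunctor A 0).obj (f i))) :
    Orth K ((DerivedCategory.singleFunctor A 0).obj (⨁ f)) := fun m φ => by
  let F := DerivedCategory.singleFunctor A 0 ⋙ shiftFunctor (DerivedCategory A) m
  haveI : F.Additive := inferInstance
  have h1 : F.map (∑ i, biproduct.π f i ≫ biproduct.ι f i) ≫ φ = φ := by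
    rw [show (∑ i, biproduct.π f i ≫ biproduct.ι f i) = 𝟙 (⨁ f) by
      classical
      refine biproduct.hom_ext' _ _ fun j => ?_
      rw [Preadditive.comp_sum, Category.comp_id]
      rw [Finset.sum_eq_single j (fun b _ hb => by rw [biproduct.ι_π_ne_assoc f hb.symm, zero_comp])
        (fun hj => absurd (Finset.mem_univ j) hj), biproduct.ι_π_self_assoc], F.map_id]
    exact Category.id_comp φ
  rw [← h1]
  · rw [F.map_sum, Preadditive.sum_comp]
    refine Finset.sum_eq_zero fun i _ => ?_
    rw [F.map_comp, Category.assoc, show F.map (biproduct.ι f i) ≫ φ = 0 from h i m _, comp_zero]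

variable [HasColimitsOfSize.{0, 0} A]

/-- A bounded complex with orthogonal terms is orthogonal. -/
theorem orth_of_bounded (L : CochainComplex A ℤ) (lo hi : ℤ) [L.IsStrictlyGE lo] [L.IsStrictlyLE hi]
    (h : ∀ i, Orth K ((DerivedCategory.singleFunctor A 0).obj (L.X i))) : Orth K (DerivedCategory.Q.obj L) := by
  haveI : L.IsStrictlyGE (hi + 1 - ((hi + 1 - lo).toNat : ℤ)) := L.isStrictlyGE_of_ge _ lo (by omega)
  refine RHom.bounded_induction (fun L => Orth K (DerivedCategory.Q.obj L))
    (fun L hL => orth_isZero (DerivedCategory.Q.map_isZero hL)) (fun S hS h₁ h₃ => ?_)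
    (fun X => Orth K ((DerivedCategory.singleFunctor A 0).obj X))
    (fun X hX => orth_isZero ((DerivedCategory.singleFunctor A 0).map_isZero hX))
    (fun e h => orth_iso ((DerivedCategory.singleFunctor A 0).mapIso e) h)
    (fun a X h => (orth_Q_single_iff X a).2 h) hi (hi + 1 - lo).toNat L h
  have hS' : S.ShortExact := HomologicalComplex.shortExact_of_degreewise_shortExact _ fun i => (hS i).some.shortExact
  exact orth₂ _ (DerivedCategory.triangleOfSES_distinguished hS') h₁ h₃

/-- The lowest term of a complex splits off. -/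
theorem exists_lowest (L : CochainComplex A ℤ) (a : ℤ) [L.IsStrictlyGE a] :
    ∃ (π : L ⟶ (HomologicalComplex.single A (ComplexShape.up ℤ) a).obj (L.X a))
      (w : KFlat.brutι L (a + 1) ≫ π = 0), (ShortComplex.mk (KFlat.brutι L (a + 1)) π w).ShortExact := by
  let π : L ⟶ (HomologicalComplex.single A (ComplexShape.up ℤ) a).obj (L.X a) :=
    HomologicalComplex.mkHomToSingle (𝟙 _) fun i hi =>
      (L.isZero_of_isStrictlyGE a i (by have : i + 1 = a := hi; omega)).eq_of_src _ _
  let S : ShortComplex (CochainComplex A ℤ) := ShortComplex.mk (KFlat.brutι L (a + 1)) π (by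
    refine HomologicalComplex.hom_ext _ _ fun i => ?_
    by_cases hi : i = a
    · exact (KFlat.brutGE_isZero L (by omega)).eq_of_src _ _
    · exact (HomologicalComplex.isZero_single_obj_X _ a _ i hi).eq_of_tgt _ _)
  refine ⟨π, S.zero, HomologicalComplex.shortExact_of_degreewise_shortExact S fun i => ShortComplex.Splitting.shortExact ?_⟩
  apply Nonempty.some
  rcases lt_trichotomy i a with hi | hi | hi
  · exact ⟨{ r := 0, s := 0
             f_r := (KFlat.brutGE_isZero L (by omega)).eq_of_src _ _
             s_g := (HomologicalComplex.isZero_single_obj_X (ComplexShape.up ℤ) a (L.X a) i (by omega)).eq_of_src _ _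
             id := (L.isZero_of_isStrictlyGE a i hi).eq_of_src _ _ }⟩
  · subst hi
    refine ⟨{ r := 0, s := (HomologicalComplex.singleObjXSelf (ComplexShape.up ℤ) i (L.X i)).hom
              f_r := (KFlat.brutGE_isZero L (by omega)).eq_of_src _ _
              s_g := ?_
              id := ?_ }⟩
    · change _ ≫ π.f i = 𝟙 _
      rw [HomologicalComplex.mkHomToSingle_f, Category.id_comp]
      exact Iso.hom_inv_id _
    · change (0 : L.X i ⟶ (KFlat.brutGE L (i + 1)).X i) ≫ (KFlat.brutι L (i + 1)).f i +
        π.f i ≫ (HomologicalComplex.singleObjXSelf (ComplexShape.up ℤ) i (L.X i)).hom = 𝟙 (L.X i)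
      rw [zero_comp, HomologicalComplex.mkHomToSingle_f, Category.id_comp]
      exact (zero_add _).trans (Iso.inv_hom_id _)
  · refine ⟨{ r := (KFlat.brutIso L (show a + 1 ≤ i by omega)).inv, s := 0
              f_r := ?_
              s_g := (HomologicalComplex.isZero_single_obj_X (ComplexShape.up ℤ) a (L.X a) i (by omega)).eq_of_src _ _
              id := ?_ }⟩
    · change (KFlat.brutι L (a + 1)).f i ≫ _ = 𝟙 _
      rw [KFlat.brutι_f L (show a + 1 ≤ i by omega), Iso.hom_inv_id]
    · change (KFlat.brutIso L (show a + 1 ≤ i by omega)).inv ≫ (KFlat.brutι L (a + 1)).f i +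
        π.f i ≫ (0 : ((HomologicalComplex.single A (ComplexShape.up ℤ) a).obj (L.X a)).X i ⟶ L.X i) = 𝟙 (L.X i)
      rw [KFlat.brutι_f L (show a + 1 ≤ i by omega), Iso.inv_hom_id, comp_zero]
      exact add_zero _

/-- In an orthogonal bounded complex whose terms other than the `p`-th are orthogonal, so is the `p`-th. -/
theorem orth_term (hi p : ℤ) : ∀ (m : ℕ) (L : CochainComplex A ℤ) [L.IsStrictlyGE (p - m)] [L.IsStrictlyLE hi],
    Orth K (DerivedCategory.Q.obj L) →
    (∀ i, i ≠ p → Orth K ((DerivedCategory.singleFunctor A 0).obj (L.X i))) →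
    Orth K ((DerivedCategory.singleFunctor A 0).obj (L.X p)) := by
  intro m
  induction m with
  | zero =>
    intro L _ _ hL ht
    haveI : L.IsStrictlyGE p := L.isStrictlyGE_of_ge _ (p - ((0 : ℕ) : ℤ)) (by simp)
    obtain ⟨π, w, hS⟩ := exists_lowest L p
    haveI := KFlat.brutGE_isStrictlyLE L (p + 1) hi
    refine (orth_Q_single_iff _ p).1 (orth₃ _ (DerivedCategory.triangleOfSES_distinguished hS)
      (orth_of_bounded _ (p + 1) hi fun i => ?_) hL)
    by_cases h : p + 1 ≤ i
    · exact orth_iso ((DerivedCategory.singleFunctor A 0).mapIso (KFlat.brutIso L h).symm) (ht i (by omega))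
    · exact orth_isZero ((DerivedCategory.singleFunctor A 0).map_isZero (KFlat.brutGE_isZero L (by omega)))
  | succ m ih =>
    intro L _ _ hL ht
    obtain ⟨a, ha⟩ : ∃ a, a = p - ((m + 1 : ℕ) : ℤ) := ⟨_, rfl⟩
    haveI : L.IsStrictlyGE a := by rw [ha]; infer_instance
    obtain ⟨π, w, hS⟩ := exists_lowest L a
    haveI := KFlat.brutGE_isStrictlyLE L (a + 1) hi
    haveI : (KFlat.brutGE L (a + 1)).IsStrictlyGE (p - (m : ℤ)) := by
      rw [show p - (m : ℤ) = a + 1 by push_cast at ha; omega]
      infer_instance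
    have hb : Orth K (DerivedCategory.Q.obj (KFlat.brutGE L (a + 1))) :=
      orth₁ _ (DerivedCategory.triangleOfSES_distinguished hS) hL
        ((orth_Q_single_iff _ a).2 (ht a (by push_cast at ha; omega)))
    have hp : a + 1 ≤ p := by push_cast at ha; omega
    refine orth_iso ((DerivedCategory.singleFunctor A 0).mapIso (KFlat.brutIso L hp)) (ih _ hb fun i hi => ?_)
    by_cases h : a + 1 ≤ i
    · exact orth_iso ((DerivedCategory.singleFunctor A 0).mapIso (KFlat.brutIso L h).symm) (ht i hi)
    · exact orth_isZero ((DerivedCategory.singleFunctor A 0).map_isZero (KFlat.brutGE_isZero L (by omega)))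

end Groth.Agent.PnKoszul9
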