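import Groth.Agent.Lib.PnKoszul9.Twist
import Groth.Agent.Lib.PnKoszul9.Orth
import Groth.Agent.Lib.AmpleRes8.Main
import Groth.Agent.Lib.DGen9.Gen
import Groth.Agent.Lib.Twist.Ample
import Groth.Agent.Lib.DQC.Tensor
import Groth.Agent.Lib.DPush.Affine

/-! Twists generate the quasi-coherent derived category of projective space. -/

set_option autoImplicit false
set_option linter.style.haveILetI false
set_option backward.isDefEq.respectTransparency false
set_option backward.isDefEq.respectTransparency.types false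

universe u

open CategoryTheory CategoryTheory.Limits AlgebraicGeometry CategoryTheory.Pretriangulated

attribute [local instance] HasDerivedCategory.standard

namespace Groth.Agent.PnKoszul9

variable (n : ℕ) (R : Type u) [CommRing R]

local notation "O" d:max => _root_.Twist.twist (CohB1.polyGrading n R) d

variable {n R}
variable (K : DCoh.D (CohB1.ProjSpace n R))

/-- The twist by `d` is left orthogonal to `K`. -/
def OT (d : ℤ) : Prop := Orth K (DCoh.inD (CohB1.ProjSpace n R) (_root_.Twist.twistProjSpace n R d))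

/-- A nonzero retract keeps orthogonality. -/
theorem orth_retract {A B : DCoh.D (CohB1.ProjSpace n R)} (i : A ⟶ B) (p : B ⟶ A) (hip : i ≫ p = 𝟙 A)
    (h : Orth K B) : Orth K A := fun m φ => by
  rw [show φ = (shiftFunctor _ m).map i ≫ ((shiftFunctor _ m).map p ≫ φ) by
    rw [← Category.assoc, ← Functor.map_comp, hip, CategoryTheory.Functor.map_id, Category.id_comp],
    show (shiftFunctor _ m).map p ≫ φ = 0 from h m _, comp_zero]

theorem orth_koszul_X (a i : ℤ) (h : OT K (a + i)) :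
    Orth K (DCoh.inD (CohB1.ProjSpace n R) ((koszul n R a).X i)) :=
  orth_biproduct (fun _ : Idx (n + 1) i => _root_.Twist.twistProjSpace n R (a + i)) fun _ => h

theorem ot_of_orth_koszul_X (a : ℤ) (i : ℕ) (hi : i ≤ n + 1)
    (h : Orth K (DCoh.inD (CohB1.ProjSpace n R) ((koszul n R a).X (i : ℤ)))) : OT K (a + i) := by
  obtain ⟨S, hS⟩ := Finset.exists_subset_card_eq (s := (Finset.univ : Finset (Fin (n + 1)))) (n := i) (by simpa using hi)
  let S' : Idx (n + 1) (i : ℤ) := ⟨S, by rw [hS.2]⟩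
  let f := fun _ : Idx (n + 1) (i : ℤ) => _root_.Twist.twistProjSpace n R (a + i)
  refine orth_retract K ((DerivedCategory.singleFunctor _ 0).map (biproduct.ι f S'))
    ((DerivedCategory.singleFunctor _ 0).map (biproduct.π f S')) ?_ h
  rw [← Functor.map_comp, biproduct.ι_π_self, CategoryTheory.Functor.map_id]

theorem isZero_koszul_Q (a : ℤ) : IsZero (DCoh.toD (CohB1.ProjSpace n R) (koszul n R a)) :=
  DPush.isZero_of_isZero_HD _ fun i =>
    (KFlat.Sch.isZero_HD_toD_iff _ i).2 (exactAt_koszul n R a i)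

theorem ot_term (a : ℤ) (p : ℕ) (hp : p ≤ n + 1)
    (h : ∀ i : ℕ, i ≤ n + 1 → i ≠ p → OT K (a + i)) : OT K (a + p) := by
  let L := koszul n R a
  haveI : L.IsStrictlyGE ((p : ℤ) - ((p : ℕ) : ℤ)) :=
    (CochainComplex.isStrictlyGE_iff _ _).2 fun i hi => isZero_koszul_X n R a i (Or.inl (by omega))
  haveI : L.IsStrictlyLE ((n : ℤ) + 1) :=
    (CochainComplex.isStrictlyLE_iff _ _).2 fun i hi => isZero_koszul_X n R a i (Or.inr hi)
  refine ot_of_orth_koszul_X K a p hp (orth_term ((n : ℤ) + 1) (p : ℤ) p L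
    (orth_isZero (isZero_koszul_Q a)) fun i hi => ?_)
  by_cases hr : i < 0 ∨ (n : ℤ) + 1 < i
  · exact orth_isZero ((DerivedCategory.singleFunctor _ 0).map_isZero (isZero_koszul_X n R a i hr))
  · obtain ⟨k, rfl⟩ : ∃ k : ℕ, i = (k : ℤ) := ⟨i.toNat, by omega⟩
    exact orth_koszul_X K a k (h k (by omega) fun e => hi (by rw [e]))

/-- `n + 1` consecutive twists generate all of them. -/
theorem ot_all (h : ∀ d : ℕ, d ≤ n → OT K (-(d : ℤ))) (d : ℤ) : OT K d := by
  suffices H : ∀ a : ℤ, ∀ i : ℕ, i ≤ n → OT K (a + i) by simpa using H d 0 (Nat.zero_le _)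
  intro a
  induction a using Int.inductionOn' (b := -(n : ℤ)) with
  | zero =>
    intro i hi
    rw [show -(n : ℤ) + i = -((n - i : ℕ) : ℤ) by omega]
    exact h _ (by omega)
  | succ a _ ih =>
    intro i hi
    rcases hi.lt_or_eq with hi' | hi'
    · rw [show a + 1 + (i : ℤ) = a + ((i + 1 : ℕ) : ℤ) by push_cast; ring]
      exact ih _ hi'
    · rw [show a + 1 + (i : ℤ) = a + ((n + 1 : ℕ) : ℤ) by push_cast; omega]
      exact ot_term K a (n + 1) le_rfl fun j hj hne => ih j (by omega)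
  | pred a _ ih =>
    intro i hi
    rcases Nat.eq_zero_or_pos i with rfl | hi'
    · refine ot_term K (a - 1) 0 (Nat.zero_le _) fun j hj hne => ?_
      rw [show a - 1 + (j : ℤ) = a + ((j - 1 : ℕ) : ℤ) by omega]
      exact ih _ (by omega)
    · rw [show a - 1 + (i : ℤ) = a + ((i - 1 : ℕ) : ℤ) by omega]
      exact ih _ (by omega)

/-- A negative power of `O(1)` is a twist. -/
theorem exists_iso_twist_of_isNegPower {N : (CohB1.ProjSpace n R).Modules}
    (h : KSix.IsNegPower (fun _ : PUnit.{u + 1} => _root_.Twist.twistProjSpace n R 1) N) :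
    ∃ d : ℤ, d ≤ 0 ∧ Nonempty (N ≅ _root_.Twist.twistProjSpace n R d) := by
  obtain ⟨_, k, -, ⟨hNk⟩⟩ := h
  have hcov := Twist.iSup_basicOpen_one n R
  obtain ⟨p⟩ := Twist.nonempty_iso_tensorPow (CohB1.polyGrading n R) hcov k
  obtain ⟨t⟩ := Twist.nonempty_tensor_iso (CohB1.polyGrading n R) (k : ℤ) (-(k : ℤ)) hcov
  obtain ⟨z⟩ := Twist.nonempty_twist_zero_iso (CohB1.polyGrading n R)
  refine ⟨-(k : ℤ), by omega, ⟨(M2.tensorRUnit N).symm ≪≫
    M2.tensorIso (Iso.refl N) (z.symm ≪≫ eqToIso (congrArg _ (add_neg_cancel (k : ℤ)).symm) ≪≫ t.symm) ≪≫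
    (M2.tensorAssoc _ _ _).symm ≪≫ M2.tensorIso (M2.tensorIso (Iso.refl N) p ≪≫ hNk) (Iso.refl _) ≪≫ M2.tensorLUnit _⟩⟩

theorem isAmpleFamily_twist_one :
    KSix.IsAmpleFamily (fun _ : PUnit.{u + 1} => _root_.Twist.twistProjSpace n R 1) := by
  have h := Twist.isAmple_twist (CohB1.polyGrading n R)
    (fun i : Fin (n + 1) => (MvPolynomial.X i : MvPolynomial (Fin (n + 1)) R))
    (fun i => ProjSpace.X_mem' n R i) (ProjSpace.irrelevant_le_span n R) (d := 1) Nat.one_pos
  have h' : CohB1.IsAmple (_root_.Twist.twistProjSpace n R 1) := h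
  refine ⟨h'.2.1, inferInstanceAs (QuasiSeparatedSpace (Proj (CohB1.polyGrading n R))), fun _ => h'.1, fun x => ?_⟩
  obtain ⟨k, s, hs⟩ := h'.2.2 x
  exact ⟨PUnit.unit, k, s, hs⟩

/-- An object orthogonal to all twists vanishes. -/
theorem isZero_of_ot_all (hK : DCoh.IsQCohD K) (h : ∀ d, OT K d) : IsZero K := by
  have hL := isAmpleFamily_twist_one (n := n) (R := R)
  haveI := hL.1
  haveI := hL.2.1
  obtain ⟨G, hG, -, -, hgen⟩ := DGen9.exists_generator_qcqs (CohB1.ProjSpace n R) Set.univ isClosed_univ (by simp)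
  refine (hgen K hK (DGen9.suppOn_univ K)).2 fun m φ => ?_
  have hP := DGen9.isPerfect_shiftD hG m
  have hpc : ∀ k, DCoh.IsPseudoCoherentD k (G⟦m⟧) := DGen9.isPseudoCoherentD_of_isPerfect hP
  obtain ⟨b, hb⟩ := DPerf.exists_isLE_of_pseudoCoherent (hpc 0)
  obtain ⟨F, hz, hterm, ⟨eF⟩⟩ := AmpleRes8.exists_resolution _ hL (G⟦m⟧) hpc b
    fun i hi => (DerivedCategory.isLE_iff _ _).1 hb i hi
  haveI : F.IsStrictlyLE b := (CochainComplex.isStrictlyLE_iff _ _).2 hz
  obtain ⟨c, B, hv⟩ := DMV.exists_vanishing_range _ hP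
  haveI : Mono (KFlat.brutι F c) := inferInstance
  let S := ShortComplex.mk (KFlat.brutι F c) (cokernel.π _) (cokernel.condition _)
  have hS : S.ShortExact := { exact := ShortComplex.exact_cokernel _ }
  let T := DerivedCategory.triangleOfSES hS
  have hT : T ∈ distTriang _ := DerivedCategory.triangleOfSES_distinguished hS
  have hq : ∀ i, Coh.IsQCoh (F.X i) := fun i =>
    M2.isQCoh_of_isFinLocFree (AmpleRes8.isFinLocFree_of_inAddL _ hL.2.2.1 (hterm i))
  have hq' : ∀ i, Coh.IsQCoh ((KFlat.brutGE F c).X i) := fun i => by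
    by_cases hi : c ≤ i
    · exact M1.isQCoh_of_isIso (KFlat.brutIso F hi).symm (hq i)
    · exact DPush.isQCoh_of_isZero (KFlat.brutGE_isZero F (by omega))
  have hC : ∀ i, c ≤ i → IsZero (DCoh.HD (DCoh.toD _ (cokernel (KFlat.brutι F c))) i) := fun i hi => by
    refine (KFlat.Sch.isZero_HD_toD_iff _ i).2 (HomologicalComplex.ExactAt.of_isZero ?_)
    haveI := KFlat.isIso_brutι_f F hi
    exact (isZero_cokernel_of_epi ((KFlat.brutι F c).f i)).of_iso
      (PreservesCokernel.iso (HomologicalComplex.eval _ _ i) (KFlat.brutι F c))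
  have hzero : eF.inv ≫ T.mor₂ = 0 :=
    hv _ (DPush.isQCohD_obj₃ _ hT (DQC.isQCohD_toD hq') (DQC.isQCohD_toD hq)) (fun i hi _ => hC i hi) _
  obtain ⟨g, hg⟩ := Triangle.coyoneda_exact₂ _ hT eF.inv hzero
  have h0 : T.mor₁ ≫ eF.hom ≫ φ = 0 := by
    haveI := KFlat.brutGE_isStrictlyLE F c b
    have ho : Orth K T.obj₁ := orth_of_bounded (KFlat.brutGE F c) c b fun i => by
      by_cases hi : c ≤ i
      · refine orth_iso ((DerivedCategory.singleFunctor _ 0).mapIso (KFlat.brutIso F hi).symm) ?_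
        obtain ⟨r, N, hN, ⟨eN⟩⟩ := hterm i
        refine orth_iso ((DerivedCategory.singleFunctor _ 0).mapIso eN.symm) (orth_biproduct N fun j => ?_)
        obtain ⟨d, -, ⟨ed⟩⟩ := exists_iso_twist_of_isNegPower (hN j)
        exact orth_iso ((DerivedCategory.singleFunctor _ 0).mapIso ed.symm) (h d)
      · exact orth_isZero ((DerivedCategory.singleFunctor _ 0).map_isZero (KFlat.brutGE_isZero F (by omega)))
    exact (cancel_epi ((shiftFunctorZero (DCoh.D _) ℤ).hom.app T.obj₁)).1 ((ho 0 _).trans comp_zero.symm)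
  rw [← cancel_epi eF.hom, comp_zero, show eF.hom ≫ φ = (eF.hom ≫ eF.inv) ≫ eF.hom ≫ φ by simp,
    Category.assoc, hg, Category.assoc, h0, comp_zero, comp_zero]

end Groth.Agent.PnKoszul9
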