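import Groth.Agent.Lib.PnKoszul9.Abstract
import Groth.Agent.Lib.Twist.ProjSpace
import Groth.Agent.Lib.DPerf.Noeth
import Groth.Agent.Lib.FMAdj9.GorShift

/-! Multiplication by degree one elements on twists, and exactness of the Koszul complexes. -/

set_option autoImplicit false
set_option backward.isDefEq.respectTransparency false

universe u v w v' w'

open CategoryTheory CategoryTheory.Limits AlgebraicGeometry TopologicalSpace Opposite

namespace Groth.Agent.PnKoszul9

namespace Ops

variable {N : ℕ} {C : Type w} [Category.{v} C] {D : Type w'} [Category.{v'} D]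

/-- Operators transported by a functor. -/
def map (P : Ops N C) (F : C ⥤ D) : Ops N D where
  O b := F.obj (P.O b)
  x j b c h := F.map (P.x j b c h)
  comm j k b c e h₁ h₂ := by rw [← F.map_comp, ← F.map_comp, P.comm j k b c e h₁ h₂]

variable [Preadditive C] [HasFiniteBiproducts C] [Preadditive D] [HasFiniteBiproducts D]

theorem map_exactAt_cx [CategoryWithHomology C] [CategoryWithHomology D] (P : Ops N C) (a : ℤ) (F : C ⥤ D)
    [F.Additive] (l : Fin N) (hl : ∀ b c h, IsIso (F.map (P.x l b c h))) (i : ℤ) :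
    ((F.mapHomologicalComplex _).obj (P.cx a)).ExactAt i := by
  have hd : ∀ (i k : ℤ) (h : i + 1 = k),
      (P.map F).d a h ≫ (F.mapBiproduct fun _ : Idx N k => P.O (a + k)).inv =
        (F.mapBiproduct fun _ : Idx N i => P.O (a + i)).inv ≫ F.map (P.d a h) := fun i k h => by
    refine biproduct.hom_ext' _ _ fun S => ?_
    simp only [d, Preadditive.comp_sum, Preadditive.sum_comp, F.map_sum, Functor.mapBiproduct_inv,
      biproduct.ι_desc_assoc]
    refine Finset.sum_congr rfl fun j _ => ?_
    rw [← F.map_comp]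
    by_cases hj : j ∈ S.1
    · erw [reassoc_of% (ι_e_of_mem (P.map F) a j h S hj)]
      rw [show biproduct.ι (fun _ : Idx N i => P.O (a + i)) S ≫ P.e a j h = 0 from ι_e_of_mem P a j h S hj,
        F.map_zero, zero_comp]
    · erw [reassoc_of% (ι_e_of_notMem (P.map F) a j h S hj)]
      rw [show biproduct.ι (fun _ : Idx N i => P.O (a + i)) S ≫ P.e a j h = _ from ι_e_of_notMem P a j h S hj,
        F.map_zsmul, F.map_comp]
      simp only [Preadditive.zsmul_comp, Category.assoc]
      congr 2
      exact biproduct.ι_desc _ _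
  let e : (P.map F).cx a ≅ (F.mapHomologicalComplex _).obj (P.cx a) :=
    HomologicalComplex.Hom.isoOfComponents (fun i => (F.mapBiproduct fun _ : Idx N i => P.O (a + i)).symm)
      fun i k (h : i + 1 = k) => by
        show (F.mapBiproduct fun _ : Idx N i => P.O (a + i)).inv ≫ F.map ((P.cx a).d i k) =
          ((P.map F).cx a).d i k ≫ _
        rw [cx_d P a i k h, cx_d (P.map F) a i k h]
        exact (hd i k h).symm
  have h0 := exactAt_cx (P.map F) a l hl i
  rw [HomologicalComplex.exactAt_iff_isZero_homology] at h0 ⊢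
  exact h0.of_iso ((HomologicalComplex.homologyFunctor _ _ i).mapIso e).symm

end Ops

open _root_.Twist Groth.Agent.Twist

variable {R A : Type u} [CommRing R] [CommRing A] [Algebra R A] {𝒜 : ℕ → Submodule R A} [GradedAlgebra 𝒜]

variable (g : 𝒜 1) {b c : ℤ} (h : b + 1 = c)

/-- The section `g / 1`. -/
noncomputable def gSec (U : (Proj 𝒜).Opens) : Sec (𝒜 := 𝒜) 1 U :=
  frac 𝒜 U g.2 (SetLike.one_mem_graded 𝒜) (by simp) fun x _ => one_notMem_prime 𝒜 x

/-- Multiplication by `g` on sections. -/
noncomputable def mulFun (U : (Proj 𝒜).Opens) (f : Sec (𝒜 := 𝒜) b U) : Sec (𝒜 := 𝒜) c U :=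
  castSec h (mulSec f (gSec g U))

theorem val_mulFun (U : (Proj 𝒜).Opens) (f : Sec (𝒜 := 𝒜) b U) (x : ProjectiveSpectrum 𝒜) (hx : x ∈ U) :
    val (mulFun g h U f) x hx = val f x hx * Localization.mk (g : A) ⟨1, one_notMem_prime 𝒜 x⟩ := by
  rw [mulFun, val_castSec, val_mulSec]
  rfl

/-- Multiplication by `g`, on presheaves of abelian groups. -/
noncomputable def mulPre : (_root_.Twist.twist 𝒜 b).val.presheaf ⟶ (_root_.Twist.twist 𝒜 c).val.presheaf where
  app U := AddCommGrpCat.ofHom
    { toFun := fun f => mulFun g h U.unop f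
      map_zero' := sec_ext fun x hx => (val_mulFun g h U.unop _ x hx).trans (zero_mul _)
      map_add' := fun f f' => sec_ext fun x hx => by
        refine (val_mulFun g h U.unop _ x hx).trans ?_
        show (val (n := b) (U := U.unop) f x hx + val (n := b) (U := U.unop) f' x hx) * _ =
          val (mulFun g h U.unop f) x hx + val (mulFun g h U.unop f') x hx
        rw [val_mulFun, val_mulFun, add_mul] }
  naturality U V i := by
    ext f
    exact sec_ext fun x hx => ((val_mulFun g h V.unop _ x hx).trans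
      (val_mulFun g h U.unop f x (leOfHom i.unop hx)).symm)

/-- Multiplication by a degree one element between twists. -/
noncomputable def mulBy : _root_.Twist.twist 𝒜 b ⟶ _root_.Twist.twist 𝒜 c :=
  Scheme.Modules.fullyFaithfulToPresheafOfModules.preimage
    (PresheafOfModules.homMk (M₁ := (_root_.Twist.twist 𝒜 b).val) (M₂ := (_root_.Twist.twist 𝒜 c).val) (mulPre g h)
      fun W (r : Γ(Proj 𝒜, W.unop)) (f : Γ(_root_.Twist.twist 𝒜 b, W.unop)) => sec_ext fun x hx => by
        refine (val_mulFun g h W.unop _ x hx).trans ?_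
        refine Eq.trans ?_ (val_smul r (mulFun g h W.unop f) x hx).symm
        rw [val_mulFun]
        exact (congrArg (· * _) (val_smul r f x hx)).trans (mul_assoc _ _ _))

theorem val_mulBy_app (U : (Proj 𝒜).Opens) (f : Γ(_root_.Twist.twist 𝒜 b, U)) (x : ProjectiveSpectrum 𝒜) (hx : x ∈ U) :
    val (n := c) ((mulBy g h).app U f) x hx =
      val (n := b) f x hx * Localization.mk (g : A) ⟨1, one_notMem_prime 𝒜 x⟩ :=
  val_mulFun g h U f x hx

theorem mulBy_comm (g' : 𝒜 1) {e : ℤ} (h' : c + 1 = e) :
    mulBy g h ≫ mulBy g' h' = mulBy g' h ≫ mulBy g h' := by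
  refine Scheme.Modules.hom_ext _ _ fun U => ?_
  ext f
  refine sec_ext fun x hx => ?_
  show val (n := e) ((mulBy g' h').app U ((mulBy g h).app U f)) x hx =
    val (n := e) ((mulBy g h').app U ((mulBy g' h).app U f)) x hx
  rw [val_mulBy_app, val_mulBy_app, val_mulBy_app, val_mulBy_app]
  exact mul_right_comm _ _ _

theorem bijective_mulBy_app {U : (Proj 𝒜).Opens} (hU : U ≤ Proj.basicOpen 𝒜 (g : A)) :
    Function.Bijective ((mulBy g h).app U) := by
  let inv : Sec (𝒜 := 𝒜) (-1) U := frac 𝒜 U (SetLike.one_mem_graded 𝒜) g.2 (by simp) hU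
  have h1 : ∀ x (hx : x ∈ U), val inv x hx * Localization.mk (g : A) ⟨1, one_notMem_prime 𝒜 x⟩ = 1 :=
    fun x hx => mk_mul_mk_eq_one 𝒜 (one_notMem_prime 𝒜 x) (hU hx)
  constructor
  · intro f f' hf
    refine sec_ext fun x hx => ?_
    have := congrArg (fun t => val (n := c) t x hx * val inv x hx) hf
    simp only [val_mulBy_app, mul_assoc] at this
    simpa only [mul_comm (Localization.mk (g : A) _) _, h1 x hx, mul_one] using this
  · intro t
    refine ⟨castSec (by omega) (mulSec (t : Sec (𝒜 := 𝒜) c U) inv), sec_ext fun x hx => ?_⟩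
    refine (val_mulBy_app g h U _ x hx).trans ?_
    rw [val_castSec, val_mulSec, mul_assoc, h1 x hx, mul_one]

theorem isIso_restrict_mulBy {U : (Proj 𝒜).Opens} (hU : U ≤ Proj.basicOpen 𝒜 (g : A)) :
    IsIso ((Scheme.Modules.restrictFunctor U.ι).map (mulBy g h)) :=
  isIso_of_bijective_app _ fun W => bijective_mulBy_app g h ((Scheme.Opens.ι_image_le U W).trans hU)

section

variable {N : ℕ} (t : Fin N → 𝒜 1)

/-- The multiplication operators. -/
noncomputable def twistOps : Ops N (Proj 𝒜).Modules where
  O b := _root_.Twist.twist 𝒜 b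
  x j _ _ h := mulBy (t j) h
  comm j k _ _ _ h₁ h₂ := mulBy_comm (t j) h₁ (t k) h₂

/-- If the elements have no common zero the Koszul complex of twists is exact. -/
theorem exactAt_twistOps (ht : ∀ x : Proj 𝒜, ∃ j, x ∈ Proj.basicOpen 𝒜 (t j : A)) (a i : ℤ) :
    ((twistOps t).cx a).ExactAt i := by
  rw [HomologicalComplex.exactAt_iff_isZero_homology]
  refine DPerf.isZero_of_cover (fun j => Proj.basicOpen 𝒜 (t j : A)) ht fun j => ?_
  let F := Scheme.Modules.restrictFunctor (Proj.basicOpen 𝒜 (t j : A)).ι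
  haveI : PreservesFiniteLimits F := inferInstance
  haveI : F.Additive := Functor.additive_of_preserves_binary_products F
  have hex := Ops.map_exactAt_cx (twistOps t) a F j (fun b c h => isIso_restrict_mulBy (t j) h le_rfl) i
  rw [HomologicalComplex.exactAt_iff_isZero_homology] at hex
  exact hex.of_iso ((((twistOps t).cx a).sc i).mapHomologyIso F).symm

end

end Groth.Agent.PnKoszul9

namespace Groth.Agent.PnKoszul9

open _root_.Twist Groth.Agent.Twist

variable (n : ℕ) (A : Type u) [CommRing A]

/-- The coordinates of projective space. -/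
noncomputable def coord (j : Fin (n + 1)) : CohB1.polyGrading n A 1 :=
  ⟨MvPolynomial.X j, ProjSpace.X_mem' n A j⟩

/-- The Koszul complex of projective space. -/
noncomputable abbrev koszul (a : ℤ) : CochainComplex (CohB1.ProjSpace n A).Modules ℤ :=
  (twistOps (coord n A)).cx a

theorem exists_mem_basicOpen_coord (x : CohB1.ProjSpace n A) :
    ∃ j, x ∈ Proj.basicOpen (CohB1.polyGrading n A) (coord n A j : MvPolynomial (Fin (n + 1)) A) := by
  have : x ∈ (⨆ i : Fin (n + 1), Proj.basicOpen (CohB1.polyGrading n A) (MvPolynomial.X i)) := by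
    rw [ProjSpace.iSup_basicOpen]; trivial
  exact Opens.mem_iSup.1 this

theorem exactAt_koszul (a i : ℤ) : (koszul n A a).ExactAt i :=
  exactAt_twistOps (coord n A) (exists_mem_basicOpen_coord n A) a i

theorem nonempty_koszul_X (a : ℤ) (i : ℕ) :
    Nonempty ((koszul n A a).X (i : ℤ) ≅
      ∐ fun _ : Fin (Nat.choose (n + 1) i) => _root_.Twist.twistProjSpace n A (a + i)) := by
  have hc : Fintype.card (Idx (n + 1) (i : ℤ)) = Fintype.card (Fin (Nat.choose (n + 1) i)) := by
    have h1 := Fintype.card_finset_len (α := Fin (n + 1)) i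
    rw [Fintype.card_fin] at h1 ⊢
    exact (Fintype.card_congr (Equiv.subtypeEquivRight fun S => Nat.cast_inj)).trans h1
  let e := (Fintype.equivOfCardEq hc).symm
  exact ⟨(biproduct.whiskerEquiv (f := fun _ : Idx (n + 1) (i : ℤ) => _root_.Twist.twistProjSpace n A (a + i))
    (g := fun _ : Fin (Nat.choose (n + 1) i) => _root_.Twist.twistProjSpace n A (a + i)) e.symm fun _ => Iso.refl _) ≪≫
    biproduct.isoCoproduct (fun _ : Fin (Nat.choose (n + 1) i) => _root_.Twist.twistProjSpace n A (a + i))⟩

theorem isZero_koszul_X (a i : ℤ) (h : i < 0 ∨ (n : ℤ) + 1 < i) : IsZero ((koszul n A a).X i) := by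
  haveI : IsEmpty (Idx (n + 1) i) := ⟨fun S => by
    have h1 := S.2
    have h2 := Finset.card_le_univ S.1
    rw [Fintype.card_fin] at h2
    rcases h with h | h <;> omega⟩
  exact IsZero.iff_id_eq_zero _ |>.2 (biproduct.hom_ext _ _ fun S => isEmptyElim S)

end Groth.Agent.PnKoszul9
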