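import Groth.Agent.Lib.PnKoszul9.Pn
import Groth.Agent.Lib.DGen9.Bounded
import Groth.Agent.Lib.DGen9.CompactPerf
import Groth.Agent.Lib.DPerf.Coprod

/-! Vanishing above a degree against twists bounds cohomology. -/

set_option autoImplicit false
set_option linter.style.haveILetI false
set_option backward.isDefEq.respectTransparency false
set_option backward.isDefEq.respectTransparency.types false

universe u w v u'

open CategoryTheory CategoryTheory.Limits AlgebraicGeometry CategoryTheory.Pretriangulated

attribute [local instance] HasDerivedCategory.standard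

namespace Groth.Agent.PnKoszul9

section General

variable {A : Type (u+1)} [Category.{u} A] [Abelian A] (C : DerivedCategory A)

/-- Maps from `E⟦-t⟧` to `C` vanish for `t` above `q`. -/
def Abv (q : ℤ) (E : DerivedCategory A) : Prop := ∀ t : ℤ, q < t → ∀ φ : E⟦-t⟧ ⟶ C, φ = 0

variable {C}

theorem abv_iso {q : ℤ} {E E' : DerivedCategory A} (e : E ≅ E') (h : Abv C q E) : Abv C q E' := fun t ht φ => by
  rw [← cancel_epi ((shiftFunctor _ (-t)).map e.hom), comp_zero]
  exact h t ht _

theorem abv_isZero {q : ℤ} {E : DerivedCategory A} (h : IsZero E) : Abv C q E := fun t _ _ =>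
  ((shiftFunctor _ (-t)).map_isZero h).eq_of_src _ _

theorem abv_mono {q q' : ℤ} {E : DerivedCategory A} (hq : q ≤ q') (h : Abv C q E) : Abv C q' E :=
  fun t ht => h t (lt_of_le_of_lt hq ht)

theorem abv_shift {q : ℤ} {E : DerivedCategory A} (h : Abv C q E) (k : ℤ) : Abv C (q + k) (E⟦k⟧) := fun t ht φ => by
  rw [← cancel_epi ((shiftFunctorAdd' (DerivedCategory A) k (-t) (-(t - k)) (by omega)).app E).hom, comp_zero]
  exact h (t - k) (by omega) _

theorem abv₂ {q : ℤ} (T : Triangle (DerivedCategory A)) (hT : T ∈ distTriang _) (h₁ : Abv C q T.obj₁)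
    (h₃ : Abv C q T.obj₃) : Abv C q T.obj₂ := fun t ht φ => by
  obtain ⟨g, hg⟩ := Triangle.yoneda_exact₂ _ (Triangle.shift_distinguished T hT (-t)) φ (h₁ t ht _)
  rw [hg, show g = 0 from h₃ t ht g, comp_zero]

theorem abv_single {q : ℤ} {X : A} (h : Abv C q ((DerivedCategory.singleFunctor A 0).obj X)) (a : ℤ) :
    Abv C (q - a) ((DerivedCategory.singleFunctor A a).obj X) := by
  have e := ((DerivedCategory.singleFunctors A).shiftIso (-a) a 0 (by omega)).app X
  exact abv_iso e (by simpa [sub_eq_add_neg] using abv_shift h (-a))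

theorem abv_retract {q : ℤ} {E E' : DerivedCategory A} (i : E ⟶ E') (p : E' ⟶ E) (hip : i ≫ p = 𝟙 E)
    (h : Abv C q E') : Abv C q E := fun t ht φ => by
  rw [show φ = (shiftFunctor _ (-t)).map i ≫ ((shiftFunctor _ (-t)).map p ≫ φ) by
    rw [← Category.assoc, ← Functor.map_comp, hip, CategoryTheory.Functor.map_id, Category.id_comp],
    show (shiftFunctor _ (-t)).map p ≫ φ = 0 from h t ht _, comp_zero]

theorem abv_biproduct {q : ℤ} {ι : Type*} [Fintype ι] (f : ι → A) [HasBiproduct f]
    (h : ∀ i, Abv C q ((DerivedCategory.singleFunctor A 0).obj (f i))) :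
    Abv C q ((DerivedCategory.singleFunctor A 0).obj (⨁ f)) := fun t ht φ => by
  let F := DerivedCategory.singleFunctor A 0 ⋙ shiftFunctor (DerivedCategory A) (-t)
  haveI : F.Additive := inferInstance
  have h1 : F.map (∑ i, biproduct.π f i ≫ biproduct.ι f i) ≫ φ = φ := by
    rw [show (∑ i, biproduct.π f i ≫ biproduct.ι f i) = 𝟙 (⨁ f) by
      classical
      refine biproduct.hom_ext' _ _ fun j => ?_
      rw [Preadditive.comp_sum, Category.comp_id]
      rw [Finset.sum_eq_single j (fun b _ hb => by rw [biproduct.ι_π_ne_assoc f hb.symm, zero_comp])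
        (fun hj => absurd (Finset.mem_univ j) hj), biproduct.ι_π_self_assoc], F.map_id]
    exact Category.id_comp φ
  rw [← h1, F.map_sum, Preadditive.sum_comp]
  refine Finset.sum_eq_zero fun i _ => ?_
  rw [F.map_comp, Category.assoc, show F.map (biproduct.ι f i) ≫ φ = 0 from h i t ht _, comp_zero]

variable [HasColimitsOfSize.{0, 0} A]

/-- Complexes starting in degree `lo`. -/
theorem abv_of_bounded (q : ℤ) (L : CochainComplex A ℤ) (lo hi : ℤ) [L.IsStrictlyGE lo] [L.IsStrictlyLE hi]
    (h : ∀ i, Abv C q ((DerivedCategory.singleFunctor A 0).obj (L.X i))) :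
    Abv C (q - lo) (DerivedCategory.Q.obj L) := by
  haveI : L.IsStrictlyGE (hi + 1 - ((hi + 1 - lo).toNat : ℤ)) := L.isStrictlyGE_of_ge _ lo (by omega)
  have H := RHom.bounded_induction
    (fun L => (∀ i, i < lo → IsZero (L.X i)) → Abv C (q - lo) (DerivedCategory.Q.obj L))
    (fun L hL _ => abv_isZero (DerivedCategory.Q.map_isZero hL))
    (fun S hS h₁ h₃ hz => by
      have hS' : S.ShortExact := HomologicalComplex.shortExact_of_degreewise_shortExact _ fun i => (hS i).some.shortExact
      refine abv₂ _ (DerivedCategory.triangleOfSES_distinguished hS') (h₁ fun i hi => ?_) (h₃ fun i hi => ?_)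
      · haveI : Mono (S.f.f i) := (hS i).some.shortExact.mono_f
        exact IsZero.of_mono (S.f.f i) (hz i hi)
      · haveI : Epi (S.g.f i) := (hS i).some.shortExact.epi_g
        exact IsZero.of_epi (S.g.f i) (hz i hi))
    (fun X => Abv C q ((DerivedCategory.singleFunctor A 0).obj X))
    (fun X hX => abv_isZero ((DerivedCategory.singleFunctor A 0).map_isZero hX))
    (fun e h => abv_iso ((DerivedCategory.singleFunctor A 0).mapIso e) h)
    (fun a X h hz => by
      by_cases ha : lo ≤ a
      · exact abv_iso ((DerivedCategory.singleFunctorIsoCompQ A a).app X) (abv_mono (by omega) (abv_single h a))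
      · refine abv_isZero (DerivedCategory.Q.map_isZero ((HomologicalComplex.single A _ a).map_isZero ?_))
        exact (hz a (not_le.1 ha)).of_iso (HomologicalComplex.singleObjXSelf (ComplexShape.up ℤ) a X).symm)
    hi (hi + 1 - lo).toNat L h
  exact H fun i hi' => L.isZero_of_isStrictlyGE lo i hi'

/-- The lowest term of an acyclic bounded complex. -/
theorem abv_lowest (q : ℤ) (L : CochainComplex A ℤ) (lo hi : ℤ) [L.IsStrictlyGE lo] [L.IsStrictlyLE hi]
    (hL : IsZero (DerivedCategory.Q.obj L))
    (h : ∀ i, lo < i → Abv C q ((DerivedCategory.singleFunctor A 0).obj (L.X i))) :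
    Abv C q ((DerivedCategory.singleFunctor A 0).obj (L.X lo)) := by
  obtain ⟨π, w, hS⟩ := exists_lowest L lo
  haveI := KFlat.brutGE_isStrictlyLE L (lo + 1) hi
  have h1 : Abv C (q - (lo + 1)) (DerivedCategory.Q.obj (KFlat.brutGE L (lo + 1))) :=
    abv_of_bounded q _ (lo + 1) hi fun i => by
      by_cases hi' : lo + 1 ≤ i
      · exact abv_iso ((DerivedCategory.singleFunctor A 0).mapIso (KFlat.brutIso L hi').symm) (h i (by omega))
      · exact abv_isZero ((DerivedCategory.singleFunctor A 0).map_isZero (KFlat.brutGE_isZero L (by omega)))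
  have hT := DerivedCategory.triangleOfSES_distinguished hS
  haveI : IsIso (DerivedCategory.triangleOfSES hS).mor₃ :=
    (Triangle.isZero₂_iff_isIso₃ _ hT).1 hL
  have h3 : Abv C (q - lo) (DerivedCategory.triangleOfSES hS).obj₃ :=
    abv_iso (asIso (DerivedCategory.triangleOfSES hS).mor₃).symm
      (abv_mono (by omega) (abv_shift h1 1))
  have e := ((DerivedCategory.singleFunctors A).shiftIso lo 0 lo (add_zero lo)).app (L.X lo)
  exact abv_iso e (by simpa using abv_shift (abv_iso ((DerivedCategory.singleFunctorIsoCompQ A lo).app (L.X lo)).symm h3 : Abv C (q - lo) _) lo)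

end General

end Groth.Agent.PnKoszul9
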